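import Cfsg.Agent.BG.Base2

/-! # Thompson transfer, extremal form -/

set_option autoImplicit false
set_option linter.unusedVariables false

namespace Cfsg.Agent.SO
open Subgroup Cfsg.Agent.BG MulAction

theorem tt {G : Type*} [Group G] [Finite G] [IsSimpleGroup G] (hG : ¬ IsMulCommutative G) {P D : Subgroup G}
    (hP : Syl 2 P ⊤) (q : G → Prop) (hq : ∀ a ∈ P, ∀ b ∈ P, q (a * b) ↔ (q a ↔ q b)) {u : G} (hu : u * u = 1)
    (hD : PiG {2} D) (hc : ∀ d ∈ D, d * u = u * d) :
    ∃ g, g * u * g⁻¹ ∈ P ∧ q (g * u * g⁻¹) ∧ ∀ d ∈ D, g * d * g⁻¹ ∈ P := by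
  classical
  have : Fact (Nat.Prime 2) := ⟨Nat.prime_two⟩
  have := Fintype.ofFinite (G ⧸ P)
  let χ : G → ℤˣ := fun y => if q y then 1 else -1
  have hχ : ∀ a ∈ P, ∀ b ∈ P, χ (a * b) = χ a * χ b := fun a i b j => by
    by_cases h1 : q a <;> by_cases h2 : q b <;> simp [χ, hq a i b j, h1, h2]
  have χ1 : χ 1 = 1 := by simpa using hχ 1 (one_mem _) 1 (one_mem _)
  let c : G → G ⧸ P → G := fun g x => (g • x).out⁻¹ * (g * x.out)
  have cP : ∀ g x, c g x ∈ P := fun g x => QuotientGroup.eq.1 (by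
    rw [QuotientGroup.out_eq', ← smul_eq_mul, ← MulAction.Quotient.smul_mk, QuotientGroup.out_eq'])
  have cc : ∀ g h x, χ (c (g * h) x) = χ (c g (h • x)) * χ (c h x) := fun g h x => by
    rw [← hχ _ (cP _ _) _ (cP _ _)]; congr 1; simp only [c, mul_smul]; group
  let V : G →* ℤˣ := MonoidHom.mk' (fun g => ∏ x, χ (c g x)) fun g h => by
    simp only [cc, Finset.prod_mul_distrib]
    rw [Fintype.prod_equiv (MulAction.toPerm h) (fun x => χ (c g (h • x))) (fun x => χ (c g x)) fun x => rfl]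
  have hV : V u = 1 := by
    rcases (inferInstance : V.ker.Normal).eq_bot_or_eq_top with e | e
    · exact absurd ⟨⟨fun a b => (MonoidHom.ker_eq_bot_iff V).1 e (by rw [map_mul, map_mul, mul_comm])⟩⟩ hG
    · exact (e ▸ mem_top u : u ∈ V.ker)
  let Y : SubMulAction D (G ⧸ P) := ⟨{x | u • x = x ∧ χ (c u x) = 1}, fun d x ⟨i, j⟩ => ⟨by
      show u • d.1 • x = d.1 • x
      rw [← mul_smul, ← hc d d.2, mul_smul, i], by
      have := cc d u x
      rw [hc d d.2, cc, i, j, mul_one] at this
      exact mul_right_cancel (this.trans (one_mul _).symm)⟩⟩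
  have hY : ∀ x, x ∈ Y ↔ u • x = x ∧ χ (c u x) = 1 := fun _ => Iff.rfl
  have o : ¬ 2 ∣ Nat.card Y := fun e => by
    have p := Finset.prod_involution (s := Finset.univ) (f := fun x => χ (c u x) * (if x ∈ Y then -1 else 1) * -1)
      (fun x _ => u • x) (fun x _ => ?_) (fun x _ n e => n ?_) (fun _ _ => Finset.mem_univ _)
      (fun x _ => by rw [← mul_smul, hu, one_smul])
    · rw [Finset.prod_mul_distrib, Finset.prod_mul_distrib, show ∏ x, χ (c u x) = 1 from hV, Finset.prod_ite,
        Finset.prod_const, Finset.prod_const, Finset.prod_const, Finset.card_univ, ← Nat.card_eq_fintype_card,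
        ← Fintype.card_subtype, ← Nat.card_eq_fintype_card, (even_iff_two_dvd.2 e).neg_one_pow,
        Odd.neg_one_pow (Nat.not_even_iff_odd.1 fun i => hP.not_dvd Nat.prime_two (by
          rw [relIndex_top_right]; exact even_iff_two_dvd.1 i))] at p
      simp at p
    · by_cases i : u • x = x
      · rw [i, Int.units_mul_self]
      · have := cc u u x
        rw [hu, show c 1 x = 1 by simp [c], χ1] at this
        rw [if_neg fun j => i j.1, if_neg fun j => i (by
          have := j.1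
          rw [← mul_smul, hu, one_smul] at this
          exact this.symm)]
        simpa [mul_comm] using this.symm
    · rcases Int.units_eq_one_or (χ (c u x)) with i | i <;> simp [hY, e, i]
  obtain ⟨⟨x, i, j⟩, k⟩ := (hD.pg Nat.prime_two).nonempty_fixed_point_of_prime_not_dvd_card Y o
  have e : ∀ g, g • x = x → c g x = x.out⁻¹ * g * x.out⁻¹⁻¹ := fun g l => by simp only [c, l]; group
  refine ⟨x.out⁻¹, e u i ▸ cP u x, ?_, fun d l => e d (congrArg Subtype.val (k ⟨d, l⟩)) ▸ cP d x⟩
  rw [← e u i]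
  by_contra n
  simp [χ, n] at j

end Cfsg.Agent.SO
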