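import Cfsg.Agent.SO.E
import Cfsg.Agent.S1661

/-! # Standard subgroups `4.L3(4)` in simple groups -/

set_option autoImplicit false
set_option linter.unusedVariables false

namespace Cfsg.Agent.SO
open Subgroup Cfsg.Agent.Spor Cfsg.Agent.Spor.OnD Cfsg.Agent.H8On Cfsg.Agent.BG Cfsg.Agent.Inv

variable {G : Type*} [Group G] [Finite G] {M : Subgroup G}

theorem exists_sd (hL : IsStandardSubgroup M) (hZc : IsCyclic (center M)) (h4 : Nat.card (center M) = 4)
    (e : M ⧸ center M ≃* L) : ∃ t ρ ε, Sd t ρ ε ∧ ρ.range = M := by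
  obtain ⟨⟨hp, -⟩, ⟨-, h2⟩, -, h5⟩ := hL
  obtain ⟨ρ, ε, s, kr, he, hk, oz, gz⟩ := exists_ρ' hZc h4 hp.commutator_eq_top e
  let ι : U →* G := M.subtype.comp ρ
  have rg : ι.range = M := by rw [MonoidHom.range_comp, MonoidHom.range_eq_top.2 s, ← MonoidHom.range_eq_map, range_subtype]
  have oz' : orderOf (ι z) = 4 := by simp only [ι, MonoidHom.comp_apply, subtype_apply, orderOf_coe, oz]
  have act : ∀ g ∈ N[M], ∃ x, ∃ d < 4, Ac ι g x d := fun g i => by
    obtain ⟨x, d, hd, h⟩ := aut_lift s kr h4 (M.normalizerMonoidHom ⟨g, i⟩)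
    refine ⟨x, d, ?_, fun y => congrArg Subtype.val (h y)⟩
    have cj : ∀ y ∈ center U, M.normalizerMonoidHom ⟨g, i⟩ (ρ y) = ρ (β d y) := fun y j => by
      rw [h, mem_center_iff.1 (aut_cen _ j), mul_inv_cancel_right]
    have q : ρ (β d k) = ρ (β d z) ^ ε := by rw [← cj _ k_cen, ← cj _ z_cen, hk, map_pow]
    rw [β_z hd, β_k hd, map_zel (pow_one _).symm hk, map_zel (pow_one _).symm hk, ← pow_mul, pow_eq4 oz] at q
    have key : ∀ d < 12, ∀ e < 3, e ≠ 1 → (1 * (nth 0 KA d % 4) + e * (nth 0 KA d / 4)) % 4 =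
      (1 * (nth 0 ZA d % 4) + e * (nth 0 ZA d / 4)) * e % 4 → d < 4 := by decide +kernel
    exact key d hd ε (by omega) (by omega) q
  have ti : ∀ u ∈ C[M], orderOf u = 2 → ∀ g, g * u * g⁻¹ ∈ C[M] → g ∈ N[M] := fun u i j g k => by
    rw [h5]
    by_contra n
    have := orderOf_dvd_natCard _ (mem_inf.2 ⟨k, mem_cj_conj.2 i⟩)
    rw [orderOf_conj', j] at this
    exact Nat.not_even_iff_odd.2 (h2 g n) (even_iff_two_dvd.2 this)
  have hk' : ι k = ι z ^ ε := by simp [ι, hk]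
  have zK : ι z ^ 2 ∈ C[M] := rg ▸ pow_mem (fK ι) 2
  have ot : orderOf (ι z ^ 2) = 2 := by rw [orderOf_pow, oz']; norm_num
  refine ⟨ι z ^ 2, ι, ε, ⟨he, hk', oz', rfl, fun y hy => kr y (Subtype.ext hy),
    fun g i => act g (ti _ zK ot g (by rwa [mem_C1.1 i, mul_inv_cancel_right])), fun u i j g l => ?_⟩, rg⟩
  rw [rg] at i l
  obtain ⟨x, d, hd, q⟩ := act g (ti u i j g l)
  have := c_sz ε (by omega) (by omega) d hd
  refine mem_C1.2 ?_
  rw [← mul_inv_eq_iff_eq_mul, ← conj_pow, q, mem_center_iff.1 (aut_cen _ z_cen), mul_inv_cancel_right,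
    β_z (by omega), map_zel (pow_one _).symm hk', ← pow_mul, pow_eq4 oz']
  rw [sz] at this
  omega

theorem isoON [IsSimpleGroup G] (hG : ¬ IsMulCommutative G) (hL : IsStandardSubgroup M)
    {F : Type*} [Field F] [Fintype F] (hF : Fintype.card F = 4) (hZc : IsCyclic (center M))
    (h4 : Nat.card (center M) = 4) (e : M ⧸ center M ≃* Matrix.ProjectiveSpecialLinearGroup (Fin 3) F) :
    Cfsg.Spor.IsoON G := by
  have := Fintype.ofFinite (GaloisField 2 2)
  have hK : Fintype.card (GaloisField 2 2) = 4 := by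
    rw [← Nat.card_eq_fintype_card, GaloisField.card 2 2 (by omega)]; rfl
  obtain ⟨p, hp⟩ := CharP.exists F
  let e' := e.trans (Class.pslCongr (FiniteField.ringEquivOfCardEq (hF.trans hK.symm)))
  obtain ⟨e1⟩ := (exL hK).1
  obtain ⟨t, ρ, ε, h, rfl⟩ := exists_sd hL hZc h4 (e'.trans e1)
  obtain ⟨g, s⟩ := h.sw hG
  have φ := subgroupOfEquivOfLe h.LH
  have : (ρ.range.subgroupOf C1[t]).Normal := (normal_subgroupOf_iff_le_normalizer h.LH).2 h.HN
  have ψ := Subgroup.centerCongr φ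
  refine S1661.result t h.ot (ρ.range.subgroupOf C1[t]) (s.idx hG) (fun x i => s.KL hG (mem_C.2 fun l j =>
    congrArg Subtype.val (i ⟨l, h.LH j⟩ j))) (ψ.isCyclic.2 hZc) (by rw [Nat.card_congr ψ.toEquiv, h4]) ?_ _ hK
    ((Class.quotCenterCongr φ).trans e')
  have := hL.1.1
  exact (Group.IsPerfect.ofSurjective (f := φ.symm.toMonoidHom) φ.symm.surjective).commutator_eq_top

end Cfsg.Agent.SO
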