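import Cfsg.Agent.H8.OnE0

/-! # Standard subgroups `4.L3(4)`: finite checks -/

set_option autoImplicit false
set_option linter.unusedVariables false
set_option maxRecDepth 100000
set_option synthInstance.maxSize 100000
set_option synthInstance.maxHeartbeats 400000

noncomputable section
namespace Cfsg.Agent.SO
open Subgroup Cfsg.Agent.Spor Cfsg.Agent.Spor.OnD Cfsg.Agent.H8On

def μ (e n m : Nat) : Nat :=
  mul0 e (Nat.mod n 64) (Nat.mod m 64) (Nat.add (Nat.div n 64) (Nat.div m 64)) 0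
def bt (e d n : Nat) : Nat :=
  Bool.rec (mkc (dg (nth 0 DT d) (Nat.mod n 64))
    (Nat.add (ex e (dg (nth 0 DT d) (Nat.mod n 64))) (Nat.mul (sz d e) (Nat.div n 64))) 0) n (Nat.beq d 0)
def iv0 (e n m : Nat) : Nat := μ e (μ e n m) (μ e m m)
def iv (e n : Nat) : Nat := iv0 e n (μ e n n)
def al (e b d n : Nat) : Nat := μ e (μ e b (bt e d n)) (iv e b)
def sqc (e b d : Nat) : Nat := μ e b (bt e d b)

theorem c_iv : ∀ e < 3, e ≠ 1 → ∀ n < 256, μ e n (iv e n) = 0 := by decide +kernel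
theorem c_sz : ∀ e < 3, e ≠ 1 → ∀ d < 4, sz d e % 4 = 1 ∨ sz d e % 4 = 3 := by decide +kernel
theorem c_sz0 : ∀ e < 3, sz 0 e % 4 = 1 := by decide +kernel
theorem c1 : ∀ e < 3, e ≠ 1 → ∀ d < 4, sz d e % 4 = 3 → ∀ b < 64, sqc e b d % 64 = 0 → ∃ w < 64,
    al e b d (μ e (iv e w) (al e b d w)) = μ e (iv e w) (al e b d w) ∧
    μ e (μ e (iv e w) (al e b d w)) (μ e (iv e w) (al e b d w)) = 0 ∧
    μ e (iv e w) (al e b d w) % 64 ≠ 0 := by decide +kernel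
theorem c2 : ∀ e < 3, e ≠ 1 → ∀ d < 4, ∀ b < 64, al e b d 1 = 1 → al e b d 4 = 4 → al e b d 10 = 10 →
    d = 0 ∧ (b = 0 ∨ b = 16) := by decide +kernel
theorem c3 : ∀ e < 3, e ≠ 1 → ∀ d < 4, ∀ b < 64, sqc e b d % 64 = 16 →
    (al e b d 1 = 1 ∨ al e b d 1 = μ e 1 16) → (al e b d 4 = 4 ∨ al e b d 4 = μ e 4 16) →
    (al e b d 10 = 10 ∨ al e b d 10 = μ e 10 16) → e = 0 ∧ d = 0 ∧ (b = 37 ∨ b = 53) := by decide +kernel
theorem c4 : ∀ e < 3, e ≠ 1 → ∀ d < 4, d ≠ 0 → ∀ b < 64, sqc e b d % 64 = 0 → ∃ w < 64,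
    μ e b (bt e d w) % 64 = w := by decide +kernel
theorem c5 : ∀ d < 4, ∀ b < 64, (sqc 0 b d % 64 = 37 ∨ sqc 0 b d % 64 = 53) → ∀ m < 64,
    al 0 b d m % 64 = m → μ 0 m m % 64 = 0 ∨ μ 0 m m % 64 = 16 := by decide +kernel
theorem c6 : ∀ x < 64, ∀ y < 64, μ 0 x (μ 0 y y) % 64 = μ 0 (μ 0 y y) x % 64 := by decide +kernel
theorem c7 : ∀ d < 4, ∀ b < 64, sqc 0 b d % 64 = 16 → ∀ y < 64, μ 0 y y % 64 = 16 →
    al 0 b d y % 64 = iv 0 y % 64 → ∀ m < 64, al 0 b d m % 64 = iv 0 m % 64 →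
    μ 0 m m % 64 = 0 ∨ μ 0 m m % 64 = 16 := by decide +kernel
theorem c8 : ∀ b < 64, sqc 0 b 3 % 64 = 0 → ∀ m < 64, al 0 b 3 m % 64 = m → μ 0 m m % 64 = 0 → m ≠ 0 →
    ∀ m' < 64, al 0 b 3 m' % 64 = m' → μ 0 m' m' % 64 = 0 → m' ≠ 0 → m = m' := by decide +kernel
theorem c9 : ∀ m < 256, μ 0 m 16 = μ 0 16 m → μ 0 m m % 64 ≠ 0 → μ 0 m m % 64 ≠ 16 →
    μ 0 m 32 = μ 0 32 m ∧ bt 0 1 m = iv 0 m := by decide +kernel
theorem c10 : ∀ e < 3, e ≠ 1 → ∀ m < 256, μ e m 1 = μ e 1 m → μ e m 2 = μ e 2 m → μ e m 4 = μ e 4 m →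
    μ e m 8 = μ e 8 m → m % 64 = 0 := by decide +kernel
theorem c11 : ∀ e < 3, e ≠ 1 → ∀ m < 256, μ e m m = 0 → (m % 64 = 0 → m = 0 ∨ m = 128) ∧
    (m % 64 = 16 → m = 16 ∨ m = 144) := by decide +kernel
theorem c12 : ∀ e < 3, e ≠ 1 → ∀ m < 64, μ e (μ e m m) (μ e m m) % 64 = 0 := by decide +kernel
theorem c13 : ∀ e < 3, e ≠ 1 → ∀ m < 64, μ e m m % 64 = tm m m % 64 := by decide +kernel

theorem β_xor {d d' : ℕ} (hd : d < 4) (hd' : d' < 4) (x : U) : β d (β d' x) = β (d ^^^ d') x := by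
  have hx : d ^^^ d' < 4 := Nat.xor_lt_two_pow (n := 2) hd hd'
  refine hom_ext (f := (β d).toMonoidHom.comp (β d').toMonoidHom) (g := (β (d ^^^ d')).toMonoidHom)
    (fun j hj => ?_) x
  show β d (β d' (ξ j)) = β (d ^^^ d') (ξ j)
  have key : allN (fun d => allN (fun d' => allN (fun j => Nat.beq
      (A.evw (nth [] TB d) ((nth [] BW d').getD j []) A.one)
      (A.evw TX ((nth [] BW (d ^^^ d')).getD j []) A.one)) 4) 4) 4 = true := by decide +kernel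
  have := Nat.eq_of_beq_eq_true ((allN_iff _ _).1 ((allN_iff _ _).1 ((allN_iff _ _).1 key d hd) d' hd') j hj)
  rw [β_ξ (by omega) j hj, β_ξ (by omega) j hj, wv, wv]
  change β d (w _) = w _
  rw [β_w (by omega), ← ((gB (by omega)).ev1 _).2, this, (gX.ev1 _).2, w]

def ow (d : Nat) : List Nat := nth [] [[], [1], [5, 0], [2, 4, 1, 7, 2, 6, 1]] d

theorem ow_fix {d : ℕ} (hd : 0 < d ∧ d < 4) : β d (w (ow d)) = w (ow d) := by
  have key : allN (fun d => Nat.beq (A.evw (nth [] TB d) (ow d) A.one) (A.evw TX (ow d) A.one)) 4 = true := by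
    decide +kernel
  have := Nat.eq_of_beq_eq_true ((allN_iff _ _).1 key d hd.2)
  rw [β_w (by omega), ← ((gB (by omega)).ev1 _).2, this, (gX.ev1 _).2, w]

theorem ow_nc {d : ℕ} (hd : 0 < d ∧ d < 4) : π (w (ow d)) * π (τ 16) ≠ π (τ 16) * π (w (ow d)) := by
  intro h
  obtain ⟨n, hn, q⟩ := cen_zel (x := (τ 16 * w (ow d))⁻¹ * (w (ow d) * τ 16))
    (π_eq_one.1 (by rw [map_mul, map_inv, map_mul, map_mul, h, inv_mul_cancel]))
  have key : allN (fun d => bor (Nat.beq d 0) (allN (fun n => A.neq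
      (A.mul (A.evw TX (ow d) A.one) (nth A.one TL 16))
      (A.mul (A.mul (nth A.one TL 16) (A.evw TX (ow d) A.one)) (nth A.one ZL n))) 16)) 4 = true := by
    decide +kernel
  have := (allN_iff _ _).1 key d hd.2
  rw [bor_iff, Nat.beq_eq, allN_iff] at this
  have a := gX.ev1 (ow d)
  have b := τM (a := 16) (by omega)
  have c := zelM hn
  refine (a.1.mul b.1).neq ((b.1.mul a.1).mul c.1) (this.resolve_left (by omega) n hn) ?_
  rw [a.1.el_mul b.1, (b.1.mul a.1).el_mul c.1, b.1.el_mul a.1, a.2, b.2, c.2, q]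
  change w _ * _ = _ * w _ * _
  group

theorem β_inj {d d' : ℕ} (hd : d < 4) (hd' : d' < 4) {x x' : U}
    (h : ∀ y, π (x * β d y * x⁻¹) = π (x' * β d' y * x'⁻¹)) : d = d' ∧ π x = π x' := by
  have e1 : ∀ y, x * β d y * x⁻¹ = x' * β d' y * x'⁻¹ :=
    lift_eq π_ker (by rw [card_cen]; norm_num) (f := (MulAut.conj x * β d).toMonoidHom)
      (g := (MulAut.conj x' * β d').toMonoidHom) fun y => by simpa using h y
  have e2 : ∀ y ∈ center U, β d y = β d' y := fun y hy => by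
    have := e1 y
    rwa [mem_center_iff.1 (aut_cen _ hy), mem_center_iff.1 (aut_cen _ hy), mul_inv_cancel_right,
      mul_inv_cancel_right] at this
  have key : ∀ d < 4, ∀ d' < 4, nth 0 ZA d < 16 ∧
      (nth 0 ZA d = nth 0 ZA d' → d = d') := by decide +kernel
  have e3 : d = d' := (key d hd d' hd').2
    (zel_inj (key d hd d hd).1 (key d' hd' d hd).1 (by rw [← β_z (by omega), ← β_z (by omega), e2 z z_cen]))
  subst e3
  refine ⟨rfl, ?_⟩
  have e4 : π (x'⁻¹ * x) ∈ center L := mem_center_iff.2 fun g => by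
    obtain ⟨g, rfl⟩ := π_surj g
    obtain ⟨g, rfl⟩ := (β d).surjective g
    rw [← map_mul, ← map_mul]
    congr 1
    calc β d g * (x'⁻¹ * x) = x'⁻¹ * (x' * β d g * x'⁻¹) * x := by group
      _ = _ := by rw [← e1]; group
  have := cenL e4
  rw [map_mul, map_inv, inv_mul_eq_one] at this
  rw [this]

theorem idx_cen : (centralizer ({π (τ 16)} : Set L)).index = 315 := by
  have h2 := (centralizer ({π (τ 16)} : Set L)).card_mul_index
  have h3 : Nat.card (centralizer ({π (τ 16)} : Set L)) = 64 := by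
    rw [← Nat.card_eq_of_equiv_fin (Equiv.ofBijective (fun a : Fin 64 => (⟨π (τ a),
      mem_centralizer_singleton_iff.2 (by
      rw [← map_mul, ← map_mul, τ_mul a.2 (by omega), τ_mul (by omega) a.2, π_eU, π_eU,
        (by decide +kernel : ∀ a < 64, tm a 16 % 64 = tm 16 a % 64) a a.2])⟩ :
          centralizer ({π (τ 16)} : Set L))) ⟨fun a b h => Fin.ext (τ_inj a.2 b.2 (congrArg Subtype.val h)),
      fun ⟨l, hl⟩ => by
        obtain ⟨x, rfl⟩ := π_surj l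
        obtain ⟨a, ha, n, rfl⟩ := cenU (mem_centralizer_singleton_iff.1 hl)
        exact ⟨⟨a, ha⟩, Subtype.ext (by simp [π_eq_one.2 (zel_cen n)])⟩⟩).symm]
  rw [cardL', h3] at h2
  omega

end Cfsg.Agent.SO
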