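import Cfsg.Agent.SO.A
import Cfsg.Agent.BG.Base2
import Cfsg.Agent.Inv.Basic

/-! # Standard subgroups `4.L3(4)`: coordinates -/

set_option autoImplicit false
set_option linter.unusedVariables false
set_option linter.unusedSectionVars false
set_option maxRecDepth 100000

namespace Cfsg.Agent.SO
open Subgroup Cfsg.Agent.Spor Cfsg.Agent.Spor.OnD Cfsg.Agent.H8On Cfsg.Agent.BG Cfsg.Agent.Inv

variable {G : Type*} [Group G]

def Ac (ρ : U →* G) (g : G) (x : U) (d : ℕ) : Prop := ∀ y, g * ρ y * g⁻¹ = ρ (x * β d y * x⁻¹)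

structure Sd (t : G) (ρ : U →* G) (e : ℕ) : Prop where
  he : e = 0 ∨ e = 2
  hk : ρ k = ρ z ^ e
  oz : orderOf (ρ z) = 4
  ht : ρ z ^ 2 = t
  ker : ∀ x, ρ x = 1 → x ∈ center U
  act : ∀ g ∈ C1[t], ∃ x, ∃ d < 4, Ac ρ g x d
  ti : ∀ u ∈ C[ρ.range], orderOf u = 2 → ∀ g, g * u * g⁻¹ ∈ C[ρ.range] → g ∈ C1[t]

noncomputable def uu (n : ℕ) : U := τ (n % 64) * z ^ (n / 64)
noncomputable def ee (ρ : U →* G) (n : ℕ) : G := ρ (uu n)
noncomputable def cr (g : G) (ρ : U →* G) : U →* G := (MulAut.conj g).toMonoidHom.comp ρ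

variable {t g g' : G} {ρ : U →* G} {e b d d' n m : ℕ} {x x' : U}

theorem cr_apply (g : G) (ρ : U →* G) (y : U) : cr g ρ y = g * ρ y * g⁻¹ := rfl
theorem cr_range (g : G) (ρ : U →* G) : (cr g ρ).range = cj g ρ.range := by
  ext a
  rw [mem_cj]
  constructor
  · rintro ⟨y, rfl⟩; exact ⟨y, by rw [cr_apply]; group⟩
  · rintro ⟨y, hy⟩; exact ⟨y, by rw [cr_apply, hy]; group⟩
theorem ee_cr (g : G) (ρ : U →* G) (n : ℕ) : ee (cr g ρ) n = g * ee ρ n * g⁻¹ := rfl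
theorem ee_mem (ρ : U →* G) (n : ℕ) : ee ρ n ∈ ρ.range := ⟨_, rfl⟩
theorem ee_def (ρ : U →* G) (n : ℕ) : ee ρ n = ρ (τ (n % 64)) * ρ z ^ (n / 64) := by
  rw [ee, uu, map_mul, map_pow]
theorem uu_lt (hb : b < 64) : uu b = τ b := by
  rw [uu, Nat.mod_eq_of_lt hb, Nat.div_eq_of_lt hb, pow_zero, mul_one]
theorem ee_lt (ρ : U →* G) (hb : b < 64) : ee ρ b = ρ (τ b) := by rw [ee, uu_lt hb]
theorem ee_zero (ρ : U →* G) : ee ρ 0 = 1 := by rw [ee_lt ρ (by omega), τ_zero, map_one]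
theorem ee_64 (ρ : U →* G) : ee ρ 64 = ρ z := by simp [ee_def, τ_zero]
theorem π_uu (n : ℕ) : π (uu n) = π (τ (n % 64)) := by
  rw [uu, map_mul, π_eq_one.2 (pow_mem z_cen _), mul_one]
theorem mkc_lt (r j : ℕ) : mkc r j 0 < 256 := by
  show r % 64 + (64 * (j % 4) + 256 * 0) < 256
  omega
theorem μ_lt (e n m : ℕ) : μ e n m < 256 := mkc_lt _ _
theorem μ_mod (e n m : ℕ) : μ e n m % 64 = tm (n % 64) (m % 64) % 64 := by
  show (tm (n % 64) (m % 64) % 64 + (64 * _ + 256 * 0)) % 64 = _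
  omega
theorem al_lt (e b d n : ℕ) : al e b d n < 256 := μ_lt _ _ _
theorem iv_lt (e n : ℕ) : iv e n < 256 := μ_lt _ _ _
theorem bt_zero (e n : ℕ) : bt e 0 n = n := rfl
theorem fc (ρ : U →* G) (y : U) : ρ y * ρ z = ρ z * ρ y := by
  rw [← map_mul, ← map_mul, mem_center_iff.1 z_cen]
theorem zc' (ρ : U →* G) (x : U) (n : ℕ) : ρ z ^ n * ρ x = ρ x * ρ z ^ n := by
  rw [← map_pow, ← map_mul, ← map_mul, mem_center_iff.1 (pow_mem z_cen n)]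
theorem fK (ρ : U →* G) : ρ z ∈ C[ρ.range] := mem_C.2 fun _ ⟨y, hy⟩ => hy ▸ fc ρ y
theorem mem_K : g ∈ C[ρ.range] ↔ ∀ y, ρ y * g = g * ρ y :=
  mem_C.trans ⟨fun h y => h _ ⟨y, rfl⟩, fun h _ ⟨y, hy⟩ => hy ▸ h y⟩

theorem N_le_NC' {A : Subgroup G} (h : g ∈ N[A]) : g ∈ N[C[A]] := by
  rw [mem_N_iff_cj, cj_C, cj_of_mem_N h]

theorem Ac.mul (h : Ac ρ g x d) (h' : Ac ρ g' x' d') (hd : d < 4) (hd' : d' < 4) :
    Ac ρ (g * g') (x * β d x') (d ^^^ d') := fun y => by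
  rw [show g * g' * ρ y * (g * g')⁻¹ = g * (g' * ρ y * g'⁻¹) * g⁻¹ by group, h', h, ← β_xor hd hd']
  simp only [map_mul, map_inv]; group
theorem ac_inn (ρ : U →* G) (x : U) : Ac ρ (ρ x) x 0 := fun y => by simp [β_zero]
theorem ac_K (h : g ∈ C[ρ.range]) : Ac ρ g 1 0 := fun y => by
  rw [← mem_K.1 h y, β_zero]; simp
theorem Ac.K (h : Ac ρ g x 0) : (ρ x)⁻¹ * g ∈ C[ρ.range] := mem_K.2 fun y => by
  have := h y
  rw [β_zero, map_mul, map_mul, map_inv] at this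
  calc ρ y * ((ρ x)⁻¹ * g) = (ρ x)⁻¹ * (ρ x * ρ y * (ρ x)⁻¹) * g := by group
    _ = _ := by rw [← this]; group
theorem ac_of_K (h : (ρ x)⁻¹ * g ∈ C[ρ.range]) : Ac ρ g x 0 := by
  have := (ac_inn ρ x).mul (ac_K h) (by omega) (by omega)
  simpa using this
theorem Ac.cen (h : Ac ρ g x d) {c : U} (hc : c ∈ center U) : Ac ρ g (x * c) d := fun y => by
  rw [h y, mul_inv_rev, mul_assoc x c, ← mem_center_iff.1 hc]; congr 1; group
theorem Ac.cr (h : Ac ρ g x d) (a : G) : Ac (cr a ρ) (a * g * a⁻¹) x d := fun y => by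
  rw [cr_apply, cr_apply, ← h y]; group
theorem Ac.nrm (h : Ac ρ g x d) {l : G} (hl : l ∈ ρ.range) : g * l * g⁻¹ ∈ ρ.range := by
  obtain ⟨y, rfl⟩ := hl
  exact ⟨_, (h y).symm⟩

namespace Sd
variable (h : Sd t ρ e)
include h

theorem e3 : e < 3 := by rcases h.he with h | h <;> omega
theorem e1 : e ≠ 1 := by rcases h.he with h | h <;> omega
theorem f4 : ρ z ^ 4 = 1 := by rw [← h.oz, pow_orderOf_eq_one]
theorem ot : orderOf t = 2 := by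
  rw [← h.ht, ord2_iff, ← pow_add, h.f4]
  refine ⟨rfl, fun q => ?_⟩
  have := (pow_eq4 h.oz (a := 2) (b := 0)).1 (by rw [q, pow_zero])
  omega
theorem tt : t * t = 1 := sq_of_ord2 h.ot
theorem ff : ρ z * ρ z = t := by rw [← h.ht, pow_two]
theorem finv : (ρ z)⁻¹ = ρ z * t := by
  rw [inv_eq_iff_mul_eq_one, ← mul_assoc, h.ff, h.tt]
theorem fne : (ρ z)⁻¹ ≠ ρ z := fun q => by
  rw [h.finv] at q
  exact ne_one_of_ord2 h.ot (by simpa using q)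
theorem tK : t ∈ C[ρ.range] := h.ht ▸ pow_mem (fK ρ) 2
theorem tL : t ∈ ρ.range := h.ht ▸ pow_mem (show ρ z ∈ ρ.range from ⟨z, rfl⟩) 2
theorem LH : ρ.range ≤ C1[t] := fun _ hl => mem_C1.2 (mem_C.1 h.tK _ hl)
theorem KH : C[ρ.range] ≤ C1[t] := fun _ hl => mem_C1'.2 (mem_C.1 hl _ h.tL)
theorem ee128 : ee ρ 128 = t := by simp [ee_def, τ_zero, h.ht]
theorem ee_add (hb : b < 64) : ee ρ (b + 128) = ee ρ b * t := by
  rw [ee_def, ee_lt ρ hb, show (b + 128) % 64 = b by omega, show (b + 128) / 64 = 2 by omega, h.ht]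
theorem ρ_zel (n : ℕ) : ρ (zel n) = ρ z ^ (n % 4 + e * (n / 4)) := by
  simpa using map_zel (pow_one _).symm h.hk n
theorem ee_mk (r j : ℕ) : ee ρ (mkc r j 0) = ρ (τ (r % 64)) * ρ z ^ j := by
  have e : mkc r j 0 = r % 64 + (64 * (j % 4) + 256 * 0) := rfl
  rw [ee_def, show mkc r j 0 % 64 = r % 64 by omega,
    (pow_eq4 h.oz).2 (show mkc r j 0 / 64 % 4 = j % 4 by omega)]
theorem ρ_eU (r : ℕ) : ρ (eU r) = ρ (τ (r % 64)) * ρ z ^ ex e r := by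
  rw [eU, map_mul, h.ρ_zel, (pow_eq4 h.oz).2 (show (r / 64 % 4 + e * (r / 64 / 4)) % 4 = ex e r % 4 by
    rw [show ex e r = r / 64 + e * (r / 256) from rfl, Nat.div_div_eq_div_mul, show 64 * 4 = 256 from rfl]; omega)]
theorem mul (n m : ℕ) : ee ρ (μ e n m) = ee ρ n * ee ρ m := by
  have l := fun n => Nat.mod_lt n (show 64 > 0 by omega)
  have : μ e n m = mkc (tm (n % 64) (m % 64)) (n / 64 + m / 64 + ex e (tm (n % 64) (m % 64))) 0 := rfl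
  rw [this, h.ee_mk, ee_def, ee_def, mul_assoc, ← mul_assoc (ρ z ^ _) (ρ _), zc', ← mul_assoc, ← mul_assoc,
    ← map_mul, τ_mul (l n) (l m), h.ρ_eU]
  simp only [mul_assoc, ← pow_add]
  congr 2; omega
theorem π_eq {x y : U} (q : ρ x = ρ y) : π x = π y := by
  have := π_eq_one.2 (h.ker (y⁻¹ * x) (by rw [map_mul, map_inv, q, inv_mul_cancel]))
  rwa [map_mul, map_inv, inv_mul_eq_one, eq_comm] at this
theorem mod (q : ee ρ n = ee ρ m) : n % 64 = m % 64 := by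
  have := h.π_eq q
  rw [π_uu, π_uu] at this
  exact τ_inj (Nat.mod_lt _ (by omega)) (Nat.mod_lt _ (by omega)) this
theorem inj (hn : n < 256) (hm : m < 256) (q : ee ρ n = ee ρ m) : n = m := by
  have a := h.mod q
  rw [ee_def, ee_def, a, mul_left_cancel_iff, pow_eq4 h.oz] at q
  omega
theorem of_mod (q : n % 64 = m % 64) : ∃ j : ℕ, ee ρ n = ee ρ m * ρ z ^ j :=
  ⟨n / 64 + 3 * (m / 64), by
    rw [ee_def, ee_def, q, mul_assoc, ← pow_add]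
    congr 1
    exact (pow_eq4 h.oz).2 (by omega)⟩
theorem iv (hn : n < 256) : ee ρ (iv e n) = (ee ρ n)⁻¹ :=
  eq_inv_of_mul_eq_one_right (by rw [← h.mul, c_iv e h.e3 h.e1 n hn, ee_zero])
theorem βz (hd : d < 4) : ρ (β d z) = ρ z ^ sz d e := by rw [β_z (by omega), h.ρ_zel, sz]
theorem bt (hd : d < 4) (n : ℕ) : ρ (β d (uu n)) = ee ρ (bt e d n) := by
  rcases Nat.eq_zero_or_pos d with rfl | h0
  · rw [β_zero]; rfl
  · have : SO.bt e d n = mkc (dg (nth 0 DT d) (n % 64)) (ex e (dg (nth 0 DT d) (n % 64)) + sz d e * (n / 64)) 0 := by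
      rw [SO.bt, show Nat.beq d 0 = false by cases d <;> simp_all [Nat.beq]]; rfl
    rw [this, h.ee_mk, uu, map_mul, map_mul, β_τ ⟨h0, hd⟩ (Nat.mod_lt _ (by omega)), h.ρ_eU, map_pow, map_pow,
      h.βz hd, ← pow_mul, mul_assoc, ← pow_add]
theorem al (q : Ac ρ g (τ b) d) (hb : b < 64) (hd : d < 4) (n : ℕ) :
    g * ee ρ n * g⁻¹ = ee ρ (al e b d n) := by
  rw [ee, q, map_mul, map_mul, map_inv, h.bt hd, SO.al, h.mul, h.mul, h.iv (by omega), ee_lt ρ hb]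
theorem uniq (q : Ac ρ g x d) (q' : Ac ρ g x' d') (hd : d < 4) (hd' : d' < 4) : d = d' ∧ π x = π x' :=
  β_inj hd hd' fun y => h.π_eq ((q y).symm.trans (q' y))
theorem sq (q : Ac ρ g (τ b) d) (hb : b < 64) (hd : d < 4) (q' : Ac ρ (g * g) (uu n) 0) :
    sqc e b d % 64 = n % 64 := by
  have a := q.mul q hd hd
  rw [Nat.xor_self] at a
  have c := (h.uniq a q' (by omega) (by omega)).2
  have : ρ (τ b * β d (τ b)) = ρ (uu (sqc e b d)) := by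
    rw [map_mul, ← uu_lt hb, h.bt hd]; exact (h.mul _ _).symm
  rw [h.π_eq this, π_uu, π_uu] at c
  exact τ_inj (Nat.mod_lt _ (by omega)) (Nat.mod_lt _ (by omega)) c
theorem sq' (q : Ac ρ g (τ b) d) (hb : b < 64) (hd : d < 4) (q' : g * g = ee ρ n) :
    sqc e b d % 64 = n % 64 := h.sq q hb hd (q' ▸ ac_inn ρ _)
theorem sq1 (q : Ac ρ g (τ b) d) (hb : b < 64) (hd : d < 4) (q' : g * g ∈ C[ρ.range]) :
    sqc e b d % 64 = 0 := h.sq (n := 0) q hb hd (by rw [uu_lt (by omega), τ_zero]; exact ac_K q')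
theorem sqac (q : Ac ρ g (τ b) d) (hb : b < 64) (hd : d < 4) : Ac ρ (g * g) (uu (sqc e b d)) 0 := by
  have a := q.mul q hd hd
  rw [Nat.xor_self] at a
  have : ρ (τ b * β d (τ b)) = ρ (uu (sqc e b d)) := by
    rw [map_mul, ← uu_lt hb, h.bt hd]; exact (h.mul _ _).symm
  exact ac_of_K (this ▸ a.K)
theorem acf (q : Ac ρ g x d) (hd : d < 4) : g * ρ z * g⁻¹ = ρ z ^ sz d e := by
  rw [q, mem_center_iff.1 (aut_cen _ z_cen), mul_inv_cancel_right, h.βz hd]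
theorem acf1 (q : Ac ρ g x d) (hd : d < 4) (q' : sz d e % 4 = 1) : g * ρ z = ρ z * g := by
  rw [← mul_inv_eq_iff_eq_mul, h.acf q hd, (pow_eq4 h.oz).2 (show _ = 1 % 4 from q'), pow_one]
theorem acf3 (q : Ac ρ g x d) (hd : d < 4) (q' : sz d e % 4 = 3) : g * ρ z * g⁻¹ = (ρ z)⁻¹ := by
  rw [h.acf q hd, (pow_eq4 h.oz).2 (show _ = 3 % 4 from q'), h.finv, ← h.ht, pow_succ']
theorem cf (hg : g ∈ C1[t]) : g * ρ z = ρ z * g ∨ g * ρ z * g⁻¹ = (ρ z)⁻¹ := by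
  obtain ⟨x, d, hd, q⟩ := h.act g hg
  exact (c_sz e h.e3 h.e1 d hd).imp (h.acf1 q hd) (h.acf3 q hd)
theorem sz3 (q : Ac ρ g x d) (hd : d < 4) (q' : g * ρ z * g⁻¹ = (ρ z)⁻¹) : sz d e % 4 = 3 :=
  (c_sz e h.e3 h.e1 d hd).resolve_left fun i => h.fne (by rw [← q', h.acf1 q hd i, mul_inv_cancel_right])
theorem nL (hg : g ∈ C1[t]) {l : G} (hl : l ∈ ρ.range) : g * l * g⁻¹ ∈ ρ.range := by
  obtain ⟨x, d, hd, q⟩ := h.act g hg
  exact q.nrm hl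
theorem HN : C1[t] ≤ N[ρ.range] := fun g hg => mem_N.2 fun a => ⟨h.nL hg, fun i => by
  simpa [mul_assoc] using h.nL (inv_mem hg) i⟩
theorem βa (hd : d < 4) : β d (τ 16) = τ 16 := by
  rcases Nat.eq_zero_or_pos d with rfl | h0
  exacts [β_zero _, β_u ⟨h0, hd⟩]
theorem std (q : Ac ρ g x d) (hd : d < 4) {j : ℕ} (q' : g * ee ρ 16 * g⁻¹ = ee ρ 16 * ρ z ^ j) :
    ∃ b < 64, Ac ρ g (τ b) d := by
  rw [ee_lt ρ (by omega), q, h.βa hd, ← map_pow, ← map_mul] at q'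
  have := h.π_eq q'
  rw [map_mul π _ (z ^ j), π_eq_one.2 (pow_mem z_cen _), mul_one, map_mul, map_mul, map_inv,
    mul_inv_eq_iff_eq_mul] at this
  obtain ⟨b, hb, n, rfl⟩ := cenU this
  exact ⟨b, hb, by simpa using q.cen (inv_mem (zel_cen n))⟩
theorem std' (hg : g ∈ C1[t]) (q' : g * ee ρ 16 = ee ρ 16 * g) : ∃ b < 64, ∃ d < 4, Ac ρ g (τ b) d := by
  obtain ⟨x, d, hd, q⟩ := h.act g hg
  obtain ⟨b, hb, q⟩ := h.std q hd (j := 0) (by rw [q']; simp)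
  exact ⟨b, hb, d, hd, q⟩
theorem code0 (q : Ac ρ g (τ b) 0) (hg : g ∈ ρ.range) (hb : b < 64) : ∃ n < 256, n % 64 = b ∧ g = ee ρ n := by
  obtain ⟨y, rfl⟩ := hg
  have := (h.uniq q (ac_inn ρ y) (by omega) (by omega)).2
  obtain ⟨n, -, c⟩ := cen_zel (x := (τ b)⁻¹ * y) (π_eq_one.1 (by rw [map_mul, map_inv, this, inv_mul_cancel]))
  refine ⟨mkc b (n % 4 + e * (n / 4)) 0, mkc_lt _ _, ?_, ?_⟩
  · show (b % 64 + (64 * _ + 256 * 0)) % 64 = b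
    omega
  · rw [h.ee_mk, ← h.ρ_zel, c, Nat.mod_eq_of_lt hb, ← map_mul, mul_inv_cancel_left]
theorem code (hg : g ∈ ρ.range) {j : ℕ} (q' : g * ee ρ 16 * g⁻¹ = ee ρ 16 * ρ z ^ j) : ∃ n < 256, g = ee ρ n := by
  obtain ⟨y, rfl⟩ := hg
  obtain ⟨b, hb, q⟩ := h.std (ac_inn ρ y) (by omega) q'
  obtain ⟨n, hn, -, c⟩ := h.code0 q ⟨y, rfl⟩ hb
  exact ⟨n, hn, c⟩
theorem code' (hg : g ∈ ρ.range) (q' : g * ee ρ 16 = ee ρ 16 * g) : ∃ n < 256, g = ee ρ n :=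
  h.code hg (j := 0) (by rw [q']; simp)
theorem LK (hg : g ∈ ρ.range) (hK : g ∈ C[ρ.range]) : ∃ j : ℕ, g = ρ z ^ j := by
  obtain ⟨n, -, h1, rfl⟩ := h.code0 (b := 0) (ac_K hK) hg (by omega)
  exact ⟨n / 64, by rw [ee_def, h1, τ_zero, map_one, one_mul]⟩
theorem zinv {j : ℕ} (q : ρ z ^ j * ρ z ^ j = 1) : ρ z ^ j = 1 ∨ ρ z ^ j = t := by
  rw [← pow_add, ← pow_zero (ρ z), pow_eq4 h.oz] at q
  rw [← h.ht, ← pow_zero (ρ z), pow_eq4 h.oz, pow_eq4 h.oz]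
  omega
theorem LK2 (hg : g ∈ ρ.range) (hK : g ∈ C[ρ.range]) (h2 : orderOf g = 2) : g = t := by
  obtain ⟨j, rfl⟩ := h.LK hg hK
  exact (h.zinv (sq_of_ord2 h2)).resolve_left (ne_one_of_ord2 h2)
theorem eeK (q : ee ρ n ∈ C[ρ.range]) : n % 64 = 0 := by
  obtain ⟨j, c⟩ := h.LK (ee_mem ρ n) q
  have : ee ρ n = ee ρ (64 * j) := by rw [c, ee_def]; simp [τ_zero]
  have := h.mod this
  omega
theorem aa : ee ρ 16 * ee ρ 16 = 1 := by
  rw [← h.mul, (by decide +kernel : ∀ e < 3, μ e 16 16 = 0) e h.e3, ee_zero]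
theorem oa : orderOf (ee ρ 16) = 2 := ord2_iff.2 ⟨h.aa, fun q => by
  have := h.mod (q.trans (ee_zero ρ).symm); omega⟩
theorem at' : ee ρ 16 ≠ t := fun q => by have := h.mod (q.trans h.ee128.symm); omega
theorem cm (q : μ e n m = μ e m n) : ee ρ n * ee ρ m = ee ρ m * ee ρ n := by rw [← h.mul, q, h.mul]
theorem cm' (q : ee ρ n * ee ρ m = ee ρ m * ee ρ n) : μ e n m = μ e m n :=
  h.inj (μ_lt _ _ _) (μ_lt _ _ _) (by rw [h.mul, q, h.mul])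

theorem cj (g : G) {s : G} (hs : g * t * g⁻¹ = s) : Sd s (cr g ρ) e := by
  subst hs
  have c : ∀ {a}, a ∈ C1[g * t * g⁻¹] ↔ g⁻¹ * a * g ∈ C1[t] := by rw [← cj_C1]; exact mem_cj
  have c' : ∀ {a}, a ∈ C[(cr g ρ).range] ↔ g⁻¹ * a * g ∈ C[ρ.range] := by rw [cr_range, ← cj_C]; exact mem_cj
  refine ⟨h.he, by rw [cr_apply, cr_apply, h.hk, conj_pow], by rw [cr_apply, orderOf_conj', h.oz],
    by rw [cr_apply, conj_pow, h.ht], fun x q => h.ker x (by simpa [cr_apply] using q), fun a i => ?_,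
    fun u i j y l => c.2 (h.ti _ (c'.1 i) (by rw [orderOf_conj'', j]) _ (by convert c'.1 l using 1; group))⟩
  obtain ⟨x, d, hd, q⟩ := h.act _ (c.1 i)
  exact ⟨x, d, hd, by simpa [mul_assoc] using q.cr g⟩

/-- the stabiliser of the standard involution -/
def Ha : Subgroup G where
  carrier := {g | g ∈ C1[t] ∧ ∃ j : ℕ, g * ee ρ 16 * g⁻¹ = ee ρ 16 * ρ z ^ j}
  one_mem' := ⟨one_mem _, 0, by simp⟩
  mul_mem' := by
    rintro a b ⟨a1, i, a2⟩ ⟨b1, j, b2⟩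
    obtain ⟨x, d, hd, q⟩ := h.act a a1
    refine ⟨mul_mem a1 b1, i + sz d e * j, ?_⟩
    rw [show a * b * ee ρ 16 * (a * b)⁻¹ = a * (b * ee ρ 16 * b⁻¹) * a⁻¹ by group, b2, ← conj_mul, a2,
      ← conj_pow, h.acf q hd, ← pow_mul, mul_assoc, ← pow_add]
  inv_mem' := by
    rintro a ⟨a1, i, a2⟩
    obtain ⟨x, d, hd, q⟩ := h.act _ (inv_mem a1)
    refine ⟨inv_mem a1, sz d e * (3 * i), ?_⟩
    have : ee ρ 16 = a * ee ρ 16 * a⁻¹ * ρ z ^ (3 * i) := by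
      rw [a2, mul_assoc, ← pow_add, show i + 3 * i = 4 * i by omega, pow_mul, h.f4, one_pow, mul_one]
    conv_lhs => rw [this]
    rw [pow_mul (ρ z) (sz d e), ← h.acf q hd, conj_pow]; group

theorem Ha_le : h.Ha ≤ C1[t] := fun _ i => i.1
theorem Ha_ac (hg : g ∈ h.Ha) : ∃ b < 64, ∃ d < 4, Ac ρ g (τ b) d := by
  obtain ⟨hg, j, q'⟩ := hg
  obtain ⟨x, d, hd, q⟩ := h.act g hg
  obtain ⟨b, hb, q⟩ := h.std q hd q'
  exact ⟨b, hb, d, hd, q⟩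
theorem ee_Ha (n : ℕ) : ee ρ n ∈ h.Ha := by
  refine ⟨h.LH (ee_mem ρ n), ?_⟩
  have : μ e n 16 % 64 = μ e 16 n % 64 := by
    rw [μ_mod, μ_mod]
    exact (by decide +kernel : ∀ a < 64, tm a 16 % 64 = tm 16 a % 64) (n % 64) (Nat.mod_lt _ (by omega))
  obtain ⟨j, q⟩ := h.of_mod this
  rw [h.mul, h.mul] at q
  refine ⟨j, ?_⟩
  rw [q, mul_assoc, mul_assoc, ← mul_assoc (ee ρ n), mem_C.1 (pow_mem (fK ρ) j) _ (ee_mem ρ n),
    mul_inv_cancel_right]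
theorem prod : IsProd h.Ha ρ.range C1[t] := by
  refine ⟨h.Ha_le, h.LH, fun m hm => ?_⟩
  obtain ⟨x, d, hd, q⟩ := h.act _ (inv_mem hm)
  refine ⟨((ρ x)⁻¹ * m⁻¹)⁻¹, inv_mem ⟨mul_mem (inv_mem (h.LH ⟨x, rfl⟩)) (inv_mem hm), 0, ?_⟩, (ρ x)⁻¹,
    inv_mem ⟨x, rfl⟩, by group⟩
  have := q (τ 16)
  rw [h.βa hd, map_mul, map_mul, map_inv] at this
  rw [ee_lt ρ (by omega), pow_zero, mul_one]
  calc _ = (ρ x)⁻¹ * (m⁻¹ * ρ (τ 16) * m⁻¹⁻¹) * ρ x := by group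
    _ = _ := by rw [this]; group

variable [Finite G]

theorem idx : h.Ha.relIndex C1[t] = 315 := by
  rw [h.prod.relIndex, ← index_comap, ← idx_cen, ← index_comap_of_surjective _ π_surj]
  congr 1
  ext y
  rw [mem_comap, mem_comap, mem_centralizer_singleton_iff]
  constructor
  · rintro ⟨-, j, q⟩
    rw [ee_lt ρ (by omega), ← map_pow, ← map_inv, ← map_mul, ← map_mul, ← map_mul] at q
    have := h.π_eq q
    rwa [map_mul π _ (z ^ j), π_eq_one.2 (pow_mem z_cen _), mul_one, map_mul, map_mul, map_inv,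
      mul_inv_eq_iff_eq_mul] at this
  · intro q
    obtain ⟨a, ha, n, rfl⟩ := cenU q
    rw [map_mul, ← ee_lt ρ ha, h.ρ_zel, ← ee_64]
    exact mul_mem (h.ee_Ha _) (pow_mem (h.ee_Ha _) _)

theorem syl {P : Subgroup G} (hP : Syl 2 P h.Ha) : Syl 2 P C1[t] :=
  hP.trans' h.Ha_le (by rw [h.idx, pin_compl Nat.prime_two]; omega)

theorem nf {D : Subgroup G} (hD : D ≤ C1[t]) (h2 : PiG {2} D) :
    ∃ l ∈ ρ.range, ∀ g ∈ D, l * g * l⁻¹ ∈ h.Ha := by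
  obtain ⟨P, hP⟩ := syl_exists Nat.prime_two h.Ha
  obtain ⟨c, hc, q⟩ := Syl.cj_sub (h.syl hP) Nat.prime_two hD h2
  obtain ⟨a, ha, l, hl, rfl⟩ := h.prod.ex c hc
  refine ⟨l, hl, fun g hg => ?_⟩
  have := mul_mem (mul_mem (inv_mem ha) (hP.1 (q (mem_cj_conj.2 hg)))) ha
  convert this using 1; group

theorem nf1 (hg : g ∈ C1[t]) {i : ℕ} (h2 : g ^ 2 ^ i = 1) :
    ∃ l ∈ ρ.range, ∃ b < 64, ∃ d < 4, Ac ρ (l * g * l⁻¹) (τ b) d := by
  obtain ⟨l, hl, q⟩ := h.nf (zpowers_le.2 hg) (pig_zpowers.2 fun p i j =>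
    (Nat.prime_dvd_prime_iff_eq i Nat.prime_two).1 (i.dvd_of_dvd_pow (j.trans (orderOf_dvd_of_pow_eq_one h2))))
  exact ⟨l, hl, h.Ha_ac (q g (mem_zpowers g))⟩

/-- inner involutions are conjugate to the standard one -/
theorem inn (q : Ac ρ g x 0) (h2 : g * g = 1) (hK : g ∉ C[ρ.range]) :
    ∃ l ∈ ρ.range, Ac ρ (l * g * l⁻¹) (τ 16) 0 := by
  have hg : g ∈ C1[t] := by
    simpa using mul_mem (h.LH ⟨x, rfl⟩) (h.KH q.K)
  obtain ⟨_, ⟨y, rfl⟩, b, hb, d, hd, q'⟩ := h.nf1 hg (i := 1) (by simpa [pow_two] using h2)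
  have a := ((ac_inn ρ y).mul q (by omega) (by omega)).mul (ac_inn ρ y⁻¹) (by decide) (by omega)
  rw [map_inv, Nat.xor_self, Nat.xor_self] at a
  obtain rfl : d = 0 := (h.uniq q' a hd (by omega)).1
  have b0 : b ≠ 0 := by
    rintro rfl
    have := q'.K
    rw [τ_zero, map_one, inv_one, one_mul] at this
    exact hK (by simpa [mul_assoc] using conj_mem' (N_le_NC' (normG ρ.range (x := ρ y) ⟨y, rfl⟩)) this)
  have s := h.sq1 q' hb hd (by rw [conj_mul, h2]; simp)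
  rw [sqc, bt_zero, c13 e h.e3 h.e1 b hb] at s
  obtain ⟨v, n, c⟩ := inv_conj hb b0 s
  have a := ((ac_inn ρ v).mul q' (by omega) (by omega)).mul (ac_inn ρ v⁻¹) (by decide) (by omega)
  simp only [β_zero, Nat.xor_self, c, map_inv] at a
  refine ⟨ρ v * ρ y, mul_mem ⟨v, rfl⟩ ⟨y, rfl⟩, ?_⟩
  have := a.cen (inv_mem (zel_cen n))
  simpa [mul_assoc] using this

theorem invL (hg : g ∈ ρ.range) (h2 : orderOf g = 2) (hn : g ≠ t) : ∃ l ∈ ρ.range, l * g * l⁻¹ = ee ρ 16 := by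
  obtain ⟨y, rfl⟩ := hg
  obtain ⟨l, hl, q⟩ := h.inn (ac_inn ρ y) (sq_of_ord2 h2) fun i => hn (h.LK2 ⟨y, rfl⟩ i h2)
  obtain ⟨n, hn, h1, c⟩ := h.code0 q (mul_mem (mul_mem hl ⟨y, rfl⟩) (inv_mem hl)) (by omega)
  have : μ e n n = 0 := h.inj (μ_lt _ _ _) (by omega) (by rw [h.mul, ← c, conj_mul, sq_of_ord2 h2, ee_zero]; simp)
  rcases (c11 e h.e3 h.e1 n hn this).2 h1 with rfl | rfl
  · exact ⟨l, hl, c⟩
  · refine ⟨ee ρ 2 * l, mul_mem (ee_mem ρ 2) hl, ?_⟩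
    rw [show ee ρ 2 * l * ρ y * (ee ρ 2 * l)⁻¹ = ee ρ 2 * (l * ρ y * l⁻¹) * (ee ρ 2)⁻¹ by group, c,
      mul_inv_eq_iff_eq_mul, ← h.mul, ← h.mul, (by decide +kernel : ∀ e < 3, μ e 2 144 = μ e 16 2) e h.e3]

end Sd
end Cfsg.Agent.SO
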