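import Cfsg.Agent.SO.B

/-! # Standard subgroups `4.L3(4)`: commuting pairs -/

set_option autoImplicit false
set_option linter.unusedVariables false
set_option linter.unusedSectionVars false
set_option maxRecDepth 100000
set_option synthInstance.maxSize 100000
set_option synthInstance.maxHeartbeats 400000

namespace Cfsg.Agent.SO
open Subgroup Cfsg.Agent.Spor Cfsg.Agent.Spor.OnD Cfsg.Agent.H8On Cfsg.Agent.BG Cfsg.Agent.Inv

variable {G : Type*} [Group G] [Finite G]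
variable {t s g g' l u : G} {ρ σ : U →* G} {e b d d' n m : ℕ} {x x' : U}

theorem cr_rg (hl : l ∈ ρ.range) : (cr l ρ).range = ρ.range := by rw [cr_range, cj_of_mem hl]
theorem cr_z (hl : l ∈ ρ.range) : cr l ρ z = ρ z := by
  rw [cr_apply, mem_C.1 (fK ρ) l hl, mul_inv_cancel_right]

namespace Sd
variable (h : Sd t ρ e)
include h

theorem tw (hl : l ∈ ρ.range) : Sd t (cr l ρ) e :=
  h.cj l (by rw [mem_C1.1 (h.LH hl), mul_inv_cancel_right])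
theorem inn' (q : Ac ρ g x 0) (h2 : g * g = 1) (hK : g ∉ C[ρ.range]) :
    ∃ l ∈ ρ.range, Ac (cr l ρ) g (τ 16) 0 := by
  obtain ⟨l, hl, q⟩ := h.inn q h2 hK
  exact ⟨l⁻¹, inv_mem hl, by simpa [mul_assoc] using q.cr l⁻¹⟩
theorem invL' (hg : g ∈ ρ.range) (h2 : orderOf g = 2) (hn : g ≠ t) : ∃ l ∈ ρ.range, g = ee (cr l ρ) 16 := by
  obtain ⟨l, hl, q⟩ := h.invL hg h2 hn
  exact ⟨l⁻¹, inv_mem hl, by rw [ee_cr, ← q]; group⟩
theorem nf1' (hg : g ∈ C1[t]) {i : ℕ} (h2 : g ^ 2 ^ i = 1) :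
    ∃ l ∈ ρ.range, ∃ b < 64, ∃ d < 4, Ac (cr l ρ) g (τ b) d := by
  obtain ⟨l, hl, b, hb, d, hd, q⟩ := h.nf1 hg h2
  exact ⟨l⁻¹, inv_mem hl, b, hb, d, hd, by simpa [mul_assoc] using q.cr l⁻¹⟩
theorem fix (q : Ac ρ g (τ b) d) (hb : b < 64) (hd : d < 4) (hn : n < 256)
    (c : g * ee ρ n = ee ρ n * g) : SO.al e b d n = n :=
  h.inj (al_lt _ _ _ _) hn (by rw [← h.al q hb hd, c, mul_inv_cancel_right])
theorem pa (hn : n = 1 ∨ n = 4 ∨ n = 10 ∨ n = 16) : ee ρ n * ee ρ 16 = ee ρ 16 * ee ρ n :=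
  h.cm ((by decide +kernel : ∀ e < 3, e ≠ 1 → ∀ n < 17, n = 1 ∨ n = 4 ∨ n = 10 ∨ n = 16 → μ e n 16 = μ e 16 n) e h.e3 h.e1 n
    (by omega) hn)
theorem pa' (q : Ac ρ g (τ 16) 0) (hn : n = 1 ∨ n = 4 ∨ n = 10 ∨ n = 16) : ee ρ n * g = g * ee ρ n := by
  have c := mem_C.1 q.K _ (ee_mem ρ n)
  rw [← ee_lt ρ (by omega)] at c
  calc ee ρ n * g = ee ρ n * ee ρ 16 * ((ee ρ 16)⁻¹ * g) := by group
    _ = ee ρ 16 * (ee ρ n * ((ee ρ 16)⁻¹ * g)) := by rw [h.pa hn, mul_assoc]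
    _ = _ := by rw [c]; group
theorem cenP (hg : g ∈ C1[t]) (c : ∀ n, n = 1 ∨ n = 4 ∨ n = 10 ∨ n = 16 → g * ee ρ n = ee ρ n * g) :
    Ac ρ g (τ 0) 0 ∨ Ac ρ g (τ 16) 0 := by
  obtain ⟨b, hb, d, hd, q⟩ := h.std' hg (c 16 (by omega))
  obtain ⟨rfl, rfl | rfl⟩ := c2 e h.e3 h.e1 d hd b hb (h.fix q hb hd (by omega) (c 1 (by omega)))
    (h.fix q hb hd (by omega) (c 4 (by omega))) (h.fix q hb hd (by omega) (c 10 (by omega)))
  exacts [.inl q, .inr q]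
omit h in
theorem K0 (q : Ac ρ g (τ 0) 0) : g ∈ C[ρ.range] := by simpa [τ_zero] using q.K
theorem Ha_π {y : U} (q : ρ y ∈ h.Ha) : π y * π (τ 16) = π (τ 16) * π y := by
  obtain ⟨-, j, q⟩ := q
  rw [ee_lt ρ (by omega), ← map_pow, ← map_inv, ← map_mul, ← map_mul, ← map_mul] at q
  have := h.π_eq q
  rwa [map_mul π _ (z ^ j), π_eq_one.2 (pow_mem z_cen _), mul_one, map_mul, map_mul, map_inv,
    mul_inv_eq_iff_eq_mul] at this
theorem out (q : Ac ρ g (τ b) d) (hb : b < 64) (hd : d < 4) (h0 : d ≠ 0) (h2 : g * g ∈ C[ρ.range]) :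
    ∃ o ∈ ρ.range, o * g = g * o ∧ o * ee ρ 16 ≠ ee ρ 16 * o := by
  obtain ⟨v, hv, c⟩ := c4 e h.e3 h.e1 d hd h0 b hb (h.sq1 q hb hd h2)
  have a := ((ac_inn ρ (τ v)⁻¹).mul q (by omega) hd).mul (ac_inn ρ (τ v)) (by simpa using hd) (by omega)
  simp only [β_zero, Nat.zero_xor, Nat.xor_zero, map_inv] at a
  have c1 : π (τ b * β d (τ v)) = π (τ v) := by
    have : ρ (τ b * β d (τ v)) = ρ (uu (μ e b (SO.bt e d v))) := by
      rw [map_mul, ← uu_lt hb, ← uu_lt hv, h.bt hd]; exact (h.mul _ _).symm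
    rw [h.π_eq this, π_uu, c]
  have c2 : (τ v)⁻¹ * τ b * β d (τ v) ∈ center U :=
    π_eq_one.1 (by rw [mul_assoc, map_mul, c1, map_inv, inv_mul_cancel])
  have a2 := a.cen (inv_mem c2) (w (ow d))
  rw [mul_inv_cancel, ow_fix ⟨by omega, hd⟩, one_mul, inv_one, mul_one, mul_inv_eq_iff_eq_mul] at a2
  refine ⟨ρ (τ v) * ρ (w (ow d)) * (ρ (τ v))⁻¹, mul_mem (mul_mem ⟨_, rfl⟩ ⟨_, rfl⟩) (inv_mem ⟨_, rfl⟩), ?_,
    fun i => ow_nc ⟨by omega, hd⟩ (h.Ha_π ?_)⟩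
  · calc _ = ρ (τ v) * (ρ (w (ow d)) * ((ρ (τ v))⁻¹ * g * ρ (τ v))) * (ρ (τ v))⁻¹ := by group
      _ = _ := by rw [← a2]; group
  · have m1 : ρ (τ v) * ρ (w (ow d)) * (ρ (τ v))⁻¹ ∈ h.Ha :=
      ⟨h.LH (mul_mem (mul_mem ⟨_, rfl⟩ ⟨_, rfl⟩) (inv_mem ⟨_, rfl⟩)), 0, by rw [i, mul_inv_cancel_right, pow_zero, mul_one]⟩
    have m2 := h.ee_Ha v
    rw [ee_lt ρ hv] at m2
    simpa [mul_assoc] using mul_mem (mul_mem (inv_mem m2) m1) m2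
theorem ft (q : g * ρ z * g⁻¹ = (ρ z)⁻¹) : ρ z * g * (ρ z)⁻¹ = t * g ∧ ρ z * g * (ρ z)⁻¹ = g * t := by
  have a : g * ρ z = (ρ z)⁻¹ * g := mul_inv_eq_iff_eq_mul.1 q
  have a' : g * (ρ z)⁻¹ = ρ z * g := by
    rw [← mul_inv_eq_iff_eq_mul, ← conj_inv, q, inv_inv]
  refine ⟨by rw [mul_assoc, a', ← mul_assoc, h.ff], ?_⟩
  rw [← a', mul_assoc, ← mul_inv_rev, h.ff, inv_of_ord2 h.ot]

end Sd

structure Pr (t : G) (ρ : U →* G) (s : G) (σ : U →* G) (e : ℕ) : Prop where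
  l : Sd t ρ e
  r : Sd s σ e
  c : s ∈ C1[t]
  n : ∀ u, orderOf u = 2 → u ∈ C[ρ.range] → u ∈ C[σ.range] → False

theorem Sd.pr2 (h : Sd t ρ e) {t1 t2 : G} (h1 : g * t * g⁻¹ = t1) (h2 : g' * t * g'⁻¹ = t2) (hn : t2 ≠ t1)
    (hc : t2 ∈ C1[t1]) : Pr t1 (cr g ρ) t2 (cr g' ρ) e := by
  refine ⟨h.cj g h1, h.cj g' h2, hc, fun u o i j => hn ?_⟩
  rw [cr_range, ← cj_C, mem_cj] at i j
  have := mem_C1.1 (h.ti _ i (by rw [orderOf_conj'', o]) (g'⁻¹ * g) (by convert j using 1; group))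
  rw [← h1, ← h2]
  calc g' * t * g'⁻¹ = g' * (t * (g'⁻¹ * g)) * g⁻¹ := by group
    _ = _ := by rw [← this]; group
theorem cr_one (ρ : U →* G) : cr 1 ρ = ρ := by ext; simp [cr_apply]
theorem Sd.pr (h : Sd t ρ e) (h2 : g * t * g⁻¹ = s) (hn : s ≠ t) (hc : s ∈ C1[t]) : Pr t ρ s (cr g ρ) e := by
  have := h.pr2 (g := 1) (by simp) h2 hn hc
  rwa [cr_one] at this

namespace Pr
variable (h : Pr t ρ s σ e)
include h

theorem symm : Pr s σ t ρ e := ⟨h.r, h.l, C1_symm h.c, fun u o i j => h.n u o j i⟩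
theorem ne : s ≠ t := fun q => h.n t h.l.ot h.l.tK (q ▸ h.r.tK)
theorem twr (hl : l ∈ σ.range) : Pr t ρ s (cr l σ) e := ⟨h.l, h.r.tw hl, h.c, by rw [cr_rg hl]; exact h.n⟩
theorem twl (hl : l ∈ ρ.range) : Pr t (cr l ρ) s σ e := (h.symm.twr hl).symm
theorem tnK : t ∉ C[σ.range] := h.n t h.l.ot h.l.tK

variable (hI : s * ρ z = ρ z * s)
include hI

theorem fH : ρ z ∈ C1[s] := mem_C1'.2 hI
theorem tin : ∃ x, Ac σ t x 0 := by
  obtain ⟨x, d, hd, q⟩ := h.r.act _ (h.fH hI)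
  have := q.mul q hd hd
  rw [Nat.xor_self, h.l.ff] at this
  exact ⟨_, this⟩
theorem sym : t * σ z = σ z * t := by
  obtain ⟨x, q⟩ := h.tin hI
  exact h.r.acf1 q (by omega) (c_sz0 e h.l.e3)
theorem ff : ρ z * σ z = σ z * ρ z := by
  refine (h.r.cf (h.fH hI)).resolve_right fun q => ?_
  have a := (h.r.ft q).1
  rcases h.l.cf (h.symm.fH (h.sym hI)) with i | i
  · rw [i, mul_inv_cancel_right] at a
    exact ne_one_of_ord2 h.r.ot (by simpa using a)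
  · rw [i, h.l.finv, mem_C1.1 (h.l.LH ⟨z, rfl⟩)] at a
    exact h.ne (mul_right_cancel a).symm

theorem tL0 (q : Ac σ t (τ 16) 0) : t ∈ σ.range := by
  by_contra hn
  have c : ∀ n, n = 1 ∨ n = 4 ∨ n = 10 ∨ n = 16 → ρ z * ee σ n = ee σ n * ρ z := fun n i => by
    refine ((h.l.cf (mem_C1.2 (h.r.pa' q i))).resolve_right fun j => hn ?_).symm
    have := mul_mem (h.r.nL (h.fH hI) (ee_mem σ n)) (inv_mem (ee_mem σ n))
    rwa [(h.l.ft j).1, mul_inv_cancel_right] at this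
  have q' : Ac σ (ρ z * ρ z) (uu 16) 0 := by rwa [h.l.ff, uu_lt (by omega)]
  rcases h.r.cenP (h.fH hI) c with a | a <;> have := h.r.sq a (by omega) (by omega) q'
  · rw [(by decide +kernel : ∀ e < 3, sqc e 0 0 = 0) e h.l.e3] at this; omega
  · rw [(by decide +kernel : ∀ e < 3, sqc e 16 0 = 0) e h.l.e3] at this; omega
theorem tL : t ∈ σ.range := by
  obtain ⟨x, q⟩ := h.tin hI
  obtain ⟨l, hl, q⟩ := h.r.inn' q h.l.tt h.tnK
  exact cr_rg hl ▸ (h.twr hl).tL0 hI q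
theorem sL : s ∈ ρ.range := h.symm.tL (h.sym hI)
theorem KH : C[ρ.range] ≤ C1[s] := C_le_C1 (h.sL hI)

theorem one0 (ha : t = ee σ 16) (hu : u ∈ C[ρ.range]) (o : orderOf u = 2) : u = t := by
  by_contra hn
  obtain ⟨b, hb, d, hd, q⟩ := h.r.std' (h.KH hI hu) (ha ▸ mem_C1.1 (h.l.KH hu))
  have cu : ∀ g, g * u = u * g → g ∈ C1[t] := fun g i => h.l.ti u hu o g (by rwa [i, mul_inv_cancel_right])
  by_cases h0 : d = 0
  · subst h0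
    obtain ⟨l, hl, q⟩ := h.r.inn' q (sq_of_ord2 o) (h.n u o hu)
    have h' := h.twr hl
    rcases h'.r.cenP h.symm.c fun n i => mem_C1'.1 (cu _ (h'.r.pa' q i)) with a | a
    · exact h'.tnK (Sd.K0 a)
    · refine h'.n (u⁻¹ * t) (ord2_iff.2 ⟨?_, fun i => hn (inv_mul_eq_one.1 i)⟩) (mul_mem (inv_mem hu) h.l.tK) ?_
      · rw [inv_of_ord2 o, mul_assoc, ← mul_assoc t, ← mem_C1.1 (h.l.KH hu), mul_assoc, h.l.tt, mul_one,
          sq_of_ord2 o]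
      · simpa [mul_assoc] using mul_mem (inv_mem q.K) a.K
  · obtain ⟨o', -, i, j⟩ := h.r.out q hb hd h0 (by rw [sq_of_ord2 o]; exact one_mem _)
    exact j (ha ▸ mem_C1.1 (cu _ i))
theorem one (hu : u ∈ C[ρ.range]) (o : orderOf u = 2) : u = t := by
  obtain ⟨l, hl, q⟩ := h.r.invL' (h.tL hI) h.l.ot h.ne.symm
  exact (h.twr hl).one0 hI q hu o
theorem one' (hu : u ∈ C[ρ.range]) (o : u * u = 1) : u = 1 ∨ u = t :=
  or_iff_not_imp_left.2 fun i => h.one hI hu (ord2_iff.2 ⟨o, i⟩)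

theorem fs0 (ha : s = ee ρ 16) :
    e = 0 ∧ ∃ c, (c = 37 ∨ c = 53 ∨ c = 165 ∨ c = 181) ∧ σ z = ee ρ c := by
  obtain ⟨b, hb, d, hd, q⟩ := h.l.std' (h.symm.fH (h.sym hI)) (ha ▸ mem_C1.1 (h.r.LH ⟨z, rfl⟩))
  have c : ∀ n, n = 1 ∨ n = 4 ∨ n = 10 ∨ n = 16 → SO.al e b d n = n ∨ SO.al e b d n = μ e n 16 := fun n i => by
    refine (h.r.cf (mem_C1.2 (ha ▸ h.l.pa i))).imp (fun j => h.l.fix q hb hd (by omega) j.symm) fun j =>
      h.l.inj (al_lt _ _ _ _) (μ_lt _ _ _) ?_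
    rw [← h.l.al q hb hd, h.l.mul, (h.r.ft j).2, ha]
  obtain ⟨rfl, rfl, hb'⟩ := c3 e h.l.e3 h.l.e1 d hd b hb (h.l.sq' q hb hd (h.r.ff.trans ha)) (c 1 (by omega))
    (c 4 (by omega)) (c 10 (by omega))
  refine ⟨rfl, ?_⟩
  have kK := q.K
  rw [← ee_lt ρ hb] at kK
  have bb : ee ρ b * ee ρ b = s := by
    rw [← h.l.mul, ha, (by decide +kernel : ∀ b < 64, b = 37 ∨ b = 53 → μ 0 b b = 16) b hb hb']
  have k2 : (ee ρ b)⁻¹ * σ z * ((ee ρ b)⁻¹ * σ z) = 1 := by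
    have := mem_C.1 kK _ (inv_mem (ee_mem ρ b))
    calc _ = (ee ρ b)⁻¹ * (σ z * (ee ρ b)⁻¹) * σ z := by group
      _ = (ee ρ b)⁻¹ * (ee ρ b * ((ee ρ b)⁻¹ * σ z * (ee ρ b)⁻¹)) * σ z := by group
      _ = (ee ρ b * ee ρ b)⁻¹ * (σ z * σ z) := by rw [← this]; group
      _ = 1 := by rw [bb, h.r.ff, inv_mul_cancel]
  rcases h.one' hI kK k2 with i | i
  · exact ⟨b, by omega, (inv_mul_eq_one.1 i).symm⟩
  · exact ⟨b + 128, by omega, by rw [h.l.ee_add hb, ← i, mul_inv_cancel_left]⟩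
theorem fsL : σ z ∈ ρ.range := by
  obtain ⟨l, hl, q⟩ := h.l.invL' (h.sL hI) h.r.ot h.ne
  obtain ⟨-, c, -, i⟩ := (h.twl hl).fs0 (by rwa [cr_z hl]) q
  exact cr_rg hl ▸ i ▸ ee_mem _ c

theorem odd0 (ha : t = ee σ 16) (hu : u ∈ C[ρ.range]) (o : Odd (orderOf u)) : u ∈ C[σ.range] := by
  obtain ⟨b, hb, d, hd, q⟩ := h.r.std' (h.KH hI hu) (ha ▸ mem_C1.1 (h.l.KH hu))
  have a := (h.r.sqac q hb hd).K
  change (ee σ _)⁻¹ * _ ∈ _ at a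
  generalize sqc e b d = m at a
  have c := mem_C.1 a _ (ee_mem σ m)
  have e4 : ee σ m ^ 4 ∈ C[σ.range] := by
    obtain ⟨j, i⟩ := h.r.of_mod (n := μ e (μ e m m) (μ e m m)) (m := 0) (by
      have := c12 e h.l.e3 h.l.e1 (m % 64) (Nat.mod_lt _ (by omega))
      simpa only [μ_mod, Nat.mod_mod] using this)
    rw [h.r.mul, h.r.mul, ee_zero, one_mul] at i
    rw [show 4 = 2 * 2 from rfl, pow_mul, pow_two, pow_two, i]
    exact pow_mem (fK σ) j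
  have u8 : u ^ 8 ∈ C[σ.range] := by
    have : u ^ 8 = ee σ m ^ 4 * ((ee σ m)⁻¹ * (u * u)) ^ 4 := by
      rw [← Commute.mul_pow c, mul_inv_cancel_left, ← pow_two, ← pow_mul]
    exact this ▸ mul_mem e4 (pow_mem a 4)
  obtain ⟨j, i⟩ := exists_pow_eq_self_of_coprime (x := u) (n := 8)
    (Nat.Coprime.pow_left 3 (Nat.coprime_two_left.2 o))
  exact i ▸ pow_mem u8 j
theorem odd (hu : u ∈ C[ρ.range]) (o : Odd (orderOf u)) : u ∈ C[σ.range] := by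
  obtain ⟨l, hl, q⟩ := h.r.invL' (h.tL hI) h.l.ot h.ne.symm
  exact cr_rg hl ▸ (h.twr hl).odd0 hI q hu o
theorem odd' (o : Odd (orderOf u)) : u ∈ C[ρ.range] ↔ u ∈ C[σ.range] :=
  ⟨fun i => h.odd hI i o, fun i => h.symm.odd (h.sym hI) i o⟩

omit hI in
theorem inv (q : s * ρ z * s⁻¹ = (ρ z)⁻¹) : t * σ z * t⁻¹ = (σ z)⁻¹ :=
  (h.r.cf h.symm.c).resolve_left fun i => h.l.fne (by rw [← q, h.symm.sym i, mul_inv_cancel_right])

omit hI in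
theorem two (hII : s * ρ z * s⁻¹ = (ρ z)⁻¹) : ∃ a ∈ ρ.range, orderOf a = 2 ∧ a ≠ t ∧ a ∈ C1[s] ∧
    a * σ z = σ z * a ∧ IsConj (a * t) s := by
  obtain ⟨l, hl, b, hb, d, hd, q⟩ := h.l.nf1' h.c (i := 1) (by simpa [pow_two] using h.r.tt)
  have h' := h.l.tw hl
  obtain ⟨v, hv, c1, c2, c3⟩ := c1 e h.l.e3 h.l.e1 d hd (h'.sz3 q hd (by rwa [cr_z hl])) b hb
    (h'.sq1 q hb hd (by rw [h.r.tt]; exact one_mem _))
  have e1 := h'.mul (SO.iv e v) (SO.al e b d v)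
  rw [h'.iv (by omega), ← h'.al q hb hd] at e1
  have e2 := h'.al q hb hd (μ e (SO.iv e v) (SO.al e b d v))
  have e3 := h'.mul (μ e (SO.iv e v) (SO.al e b d v)) (μ e (SO.iv e v) (SO.al e b d v))
  have e4 : ee (cr l ρ) (μ e (SO.iv e v) (SO.al e b d v)) ∉ C[ρ.range] := fun i => c3 (h'.eeK (by rwa [cr_rg hl]))
  have e5 := ee_mem (cr l ρ) (μ e (SO.iv e v) (SO.al e b d v))
  rw [c1] at e2
  rw [c2, ee_zero] at e3
  rw [cr_rg hl] at e5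
  generalize ee (cr l ρ) (μ e (SO.iv e v) (SO.al e b d v)) = a at e1 e2 e3 e4 e5
  have as : a ∈ C1[s] := mem_C1'.2 (mul_inv_eq_iff_eq_mul.1 e2)
  have at' := mem_C1.1 (h.l.LH e5)
  have k1 : IsConj (a * s) s := isConj_iff.2 ⟨ee (cr l ρ) v, by rw [e1]; group⟩
  have k2 : IsConj (a * s) (a * t * s) := isConj_iff.2 ⟨ρ z, by
    rw [← mul_assoc, ← mem_C.1 (fK ρ) a e5, mul_assoc a, mul_assoc a, (h.l.ft hII).1, mul_assoc]⟩
  have i := h.inv hII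
  have k3 : ∀ a : G, a * σ z = σ z * a → IsConj (a * t) (a * t * s) := fun a c => isConj_iff.2 ⟨σ z, by
    rw [← mul_assoc, ← c, mul_assoc a, mul_assoc a, (h.r.ft i).2, mul_assoc]⟩
  rcases h.r.cf as with j | j
  · exact ⟨a, e5, ord2_iff.2 ⟨e3.symm, fun i => e4 (i ▸ one_mem _)⟩, fun i => e4 (i ▸ h.l.tK), as, j,
      (k3 a j).trans (k2.symm.trans k1)⟩
  · have c : a * t * σ z = σ z * (a * t) := by
      rw [← mul_inv_eq_iff_eq_mul, show a * t * σ z * (a * t)⁻¹ = a * (t * σ z * t⁻¹) * a⁻¹ by group, i, ← conj_inv,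
        j, inv_inv]
    refine ⟨a * t, mul_mem e5 h.l.tL, ord2_iff.2 ⟨?_, fun i => e4 ?_⟩, fun i => e4 ?_, mul_mem as h.symm.c, c,
      (k3 _ c).trans ?_⟩
    · rw [mul_assoc, ← mul_assoc t, ← at', mul_assoc, h.l.tt, mul_one, e3]
    · rw [eq_inv_of_mul_eq_one_left i]; exact inv_mem h.l.tK
    · rw [show a = 1 by simpa using i]; exact one_mem _
    · rwa [mul_assoc a t t, h.l.tt, mul_one]

end Pr
end Cfsg.Agent.SO
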