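import Cfsg.Agent.SO.C
import Cfsg.Agent.Blk.ZStar

/-! # Standard subgroups `4.L3(4)`: fusion and the centraliser of `L` -/

set_option autoImplicit false
set_option linter.unusedVariables false
set_option linter.unusedSectionVars false
set_option maxRecDepth 100000
set_option synthInstance.maxSize 100000
set_option synthInstance.maxHeartbeats 400000

namespace Cfsg.Agent.SO
open Subgroup Cfsg.Agent.Spor Cfsg.Agent.Spor.OnD Cfsg.Agent.H8On Cfsg.Agent.BG Cfsg.Agent.Inv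

variable {G : Type*} [Group G] [Finite G]
variable {t s g g' l u : G} {ρ σ : U →* G} {e b d d' n m : ℕ} {x x' : U}

structure Sw (t : G) (ρ : U →* G) (g : G) : Prop where
  h : Sd t ρ 0
  cls : ∀ l ∈ ρ.range, orderOf l = 2 → ∃ y, y * t * y⁻¹ = l
  g1 : g * t * g⁻¹ = ee ρ 16
  g2 : g * ee ρ 16 * g⁻¹ = t

section
variable [IsSimpleGroup G] (hG : ¬ IsMulCommutative G) (h : Sd t ρ e)
include hG h

theorem Sd.ncen : t ∉ center G := fun c => by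
  rcases (inferInstance : (center G).Normal).eq_bot_or_eq_top with q | q
  · exact ne_one_of_ord2 h.ot (mem_bot.1 (q ▸ c))
  · exact hG ⟨⟨fun a b => mem_center_iff.1 (q ▸ mem_top b) a⟩⟩

theorem Sd.exists_pr : ∃ g, g * t * g⁻¹ ∈ C1[t] ∧ g * t * g⁻¹ ≠ t := by
  by_contra! n
  have : Fact (Nat.Prime 2) := ⟨Nat.prime_two⟩
  have hO : pPrimeCore 2 G = ⊥ := by
    refine (inferInstance : (pPrimeCore 2 G).Normal).eq_bot_or_eq_top.resolve_right fun q => ?_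
    have := Core.not_dvd_card_pPrimeCore (G := G) 2
    rw [q, card_top, ← h.ot] at this
    exact this (orderOf_dvd_natCard _)
  refine h.ncen hG (mem_center_iff.2 fun g => ?_)
  have := Blk.zstar ⟨h.ot, fun g i => n g (mem_C1'.2 i)⟩ g
  rw [hO, mem_bot, mul_inv_eq_one, mul_inv_eq_iff_eq_mul] at this
  exact this.symm

theorem Sd.ca : ∃ g, g * t * g⁻¹ = ee ρ 16 := by
  obtain ⟨g, i, j⟩ := h.exists_pr hG
  have p := h.pr rfl j i
  rcases h.cf i with q | q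
  · obtain ⟨l, -, c⟩ := h.invL (p.sL q) p.r.ot j
    exact ⟨l * g, by rw [← c]; group⟩
  · obtain ⟨a, aL, o, -, -, -, c⟩ := p.two q
    obtain ⟨y, c⟩ := isConj_iff.1 c.symm
    obtain ⟨l, -, c'⟩ := h.invL (mul_mem aL h.tL) (by rw [← c, orderOf_conj', p.r.ot])
      fun i => ne_one_of_ord2 o (by simpa using i)
    exact ⟨l * y * g, by rw [← c', ← c]; group⟩

theorem Sd.sw : ∃ g, Sw t ρ g := by
  obtain ⟨g, c⟩ := h.ca hG
  have p := h.pr c h.at' (h.LH (ee_mem ρ 16))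
  obtain ⟨rfl, -⟩ := p.fs0 (fc ρ _) rfl
  obtain ⟨l, hl, q⟩ := p.r.invL' (p.tL (fc ρ _)) h.ot p.ne.symm
  refine ⟨l * g, h, fun a i o => ?_, ?_, ?_⟩
  · by_cases j : a = t
    · exact ⟨1, by simp [j]⟩
    · obtain ⟨y, -, q⟩ := h.invL i o j
      exact ⟨y⁻¹ * g, by rw [mul_assoc _ g, mul_inv_rev, ← mul_assoc, mul_assoc _ _ g⁻¹, c, ← q]; group⟩
  · rw [mul_assoc l, mul_inv_rev, ← mul_assoc, mul_assoc l, c, mem_C1.1 (p.r.LH hl), mul_inv_cancel_right]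
  · rw [q, ee_cr, ee_cr]; group
end

theorem bt_mod (e d n : ℕ) : bt e d n % 64 = bt e d (n % 64) % 64 := by
  rcases d with _ | d
  · simp [bt_zero]
  · show (dg _ (n % 64) % 64 + (64 * _ + 256 * 0)) % 64 = (dg _ (n % 64 % 64) % 64 + (64 * _ + 256 * 0)) % 64
    rw [Nat.mod_mod]; omega
theorem al_mod (e b d n : ℕ) : al e b d n % 64 = al e b d (n % 64) % 64 := by
  simp only [al, μ_mod, bt_mod e d n]
theorem iv_mod (e n : ℕ) : iv e n % 64 = iv e (n % 64) % 64 := by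
  simp only [iv, iv0, μ_mod, Nat.mod_mod]
theorem μ_mod' (e n : ℕ) : μ e n n % 64 = μ e (n % 64) (n % 64) % 64 := by simp only [μ_mod, Nat.mod_mod]

def W (t a y : G) : Prop := y = 1 ∨ y = t ∨ y = a ∨ y = a * t

theorem Sd.lq (h : Sd t ρ e) (q : μ e (m % 64) (m % 64) % 64 = 0 ∨ μ e (m % 64) (m % 64) % 64 = 16)
    (h2 : orderOf (ee ρ m * ee ρ m) = 2) : W t (ee ρ 16) (ee ρ m * ee ρ m) := by
  rw [← μ_mod'] at q
  rw [← h.mul] at h2 ⊢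
  have := c11 e h.e3 h.e1 _ (μ_lt e m m) (h.inj (μ_lt _ _ _) (by omega) (by rw [h.mul, sq_of_ord2 h2, ee_zero]))
  rcases q with q | q
  · rcases this.1 q with i | i <;> rw [i]
    exacts [.inl (ee_zero ρ), .inr (.inl h.ee128)]
  · rcases this.2 q with i | i <;> rw [i]
    exacts [.inr (.inr (.inl rfl)), .inr (.inr (.inr (h.ee_add (b := 16) (by omega))))]
theorem Sd.nW (h : Sd t ρ e) : ¬ W t (ee ρ 16) (ee ρ 32) := by
  rw [W, ← h.ee_add (b := 16) (by omega), ← ee_zero ρ]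
  nth_rw 1 [← h.ee128]
  rintro (i | i | i | i) <;> have := h.mod i <;> omega
theorem W.symm {a y : G} (q : W t a y) (c : a * t = t * a) : W a t y := by unfold W at *; rw [← c]; tauto
theorem W.cj {a y : G} (q : W (g * t * g⁻¹) (g * a * g⁻¹) (g * y * g⁻¹)) : W t a y := by
  simpa only [W, conj_mul, mul_left_inj, mul_right_inj, conj_eq_one_iff] using q
theorem pie2 {i : ℕ} (q : g ^ 2 ^ i = 1) : PiE {2} g := fun p i j =>
  (Nat.prime_dvd_prime_iff_eq i Nat.prime_two).1 (i.dvd_of_dvd_pow (j.trans (orderOf_dvd_of_pow_eq_one q)))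

def E7 (n : ℕ) : Prop := n = 16 ∨ n = 32 ∨ n = 48 ∨ n = 128 ∨ n = 144 ∨ n = 160 ∨ n = 176
instance : DecidablePred E7 := fun _ => by unfold E7; infer_instance

namespace Sw
variable (h : Sw t ρ g)
include h

theorem pr : Pr t ρ (ee ρ 16) (cr g ρ) 0 := h.h.pr h.g1 h.h.at' (h.h.LH (ee_mem ρ 16))
theorem symm : Sw (ee ρ 16) (cr g ρ) g := by
  refine ⟨h.pr.r, fun l i o => ?_, rfl, by rw [ee_cr, h.g2, h.g1]⟩
  rw [cr_range, mem_cj] at i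
  obtain ⟨y, c⟩ := h.cls _ i (by rwa [orderOf_conj''])
  exact ⟨g * y * g⁻¹, by rw [← h.g1, conj_inv, conj_mul, conj_mul, c]; group⟩
theorem fa : ∃ c, (c = 37 ∨ c = 53 ∨ c = 165 ∨ c = 181) ∧ cr g ρ z = ee ρ c := (h.pr.fs0 (fc ρ _) rfl).2
theorem fa' : ∃ c, (c = 37 ∨ c = 53 ∨ c = 165 ∨ c = 181) ∧ ρ z = ee (cr g ρ) c :=
  (h.pr.symm.fs0 (h.pr.sym (fc ρ _)) h.g2.symm).2
theorem e8 (n : ℕ) : ee ρ n ^ 2 ^ 3 = 1 := by
  obtain ⟨j, c⟩ := h.h.of_mod (Nat.mod_mod n 64).symm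
  rw [c, Commute.mul_pow (mem_C.1 (pow_mem (fK ρ) j) _ (ee_mem ρ _)), ← pow_mul, show j * 2 ^ 3 = 4 * (j * 2) by omega, pow_mul, h.h.f4,
    one_pow, mul_one, show 2 ^ 3 = 2 * (2 * 2) from rfl, pow_mul, pow_mul, pow_two, pow_two, pow_two, ← h.h.mul,
    ← h.h.mul, ← h.h.mul, (by decide +kernel : ∀ n < 64, μ 0 (μ 0 (μ 0 n n) (μ 0 n n)) (μ 0 (μ 0 n n) (μ 0 n n)) = 0)
    _ (Nat.mod_lt _ (by omega)), ee_zero]
theorem oE (hn : E7 n) : orderOf (ee ρ n) = 2 := by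
  have := (by decide +kernel : ∀ n < 256, E7 n → μ 0 n n = 0) n (by unfold E7 at hn; omega) hn
  refine ord2_iff.2 ⟨by rw [← h.h.mul, this, ee_zero], fun q => ?_⟩
  have := h.h.inj (by unfold E7 at hn; omega) (by omega) (q.trans (ee_zero ρ).symm)
  unfold E7 at hn; omega
theorem cE (hn : E7 n) (hm : E7 m) : ee ρ n * ee ρ m = ee ρ m * ee ρ n :=
  h.h.cm ((by decide +kernel : ∀ n < 256, E7 n → ∀ m < 256, E7 m → μ 0 n m = μ 0 m n) n
    (by unfold E7 at hn; omega) hn m (by unfold E7 at hm; omega) hm)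
theorem faE (hn : E7 n) : ee ρ n * cr g ρ z = cr g ρ z * ee ρ n := by
  obtain ⟨c, hc, q⟩ := h.fa
  rw [q]
  exact h.h.cm ((by decide +kernel : ∀ n < 256, E7 n → ∀ c < 256, (c = 37 ∨ c = 53 ∨ c = 165 ∨ c = 181) →
    μ 0 n c = μ 0 c n) n (by unfold E7 at hn; omega) hn c (by omega) hc)
theorem prE (hn : E7 n) (hm : E7 m) (hne : m ≠ n) (c : g' * t * g'⁻¹ = ee ρ n) (c' : u * t * u⁻¹ = ee ρ m) :
    Pr (ee ρ n) (cr g' ρ) (ee ρ m) (cr u ρ) 0 :=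
  h.h.pr2 c c' (fun i => hne (h.h.inj (by unfold E7 at hm; omega) (by unfold E7 at hn; omega) i))
    (mem_C1.2 (h.cE hm hn))
theorem yE (hn : E7 n) (h1 : n ≠ 16) (h2 : n ≠ 128) (c : g' * t * g'⁻¹ = ee ρ n) :
    ∃ m < 256, cr g' ρ z = ee ρ m ∧ μ 0 m m = n ∧ μ 0 m 16 = μ 0 16 m ∧ ee ρ m ∈ (cr g ρ).range := by
  have p := h.prE (n := 16) (by decide) hn h1 h.g1 c
  have p' := h.h.pr c (fun i => h2 (h.h.inj (by unfold E7 at hn; omega) (by omega) (i.trans h.h.ee128.symm)))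
    (h.h.LH (ee_mem ρ n))
  have a := (p.sym (h.faE hn)).symm
  obtain ⟨m, hm, q⟩ := h.h.code' (p'.fsL (fc ρ _)) a
  exact ⟨m, hm, q, h.h.inj (μ_lt _ _ _) (by unfold E7 at hn; omega) (by rw [h.h.mul, ← q, p.r.ff]),
    h.h.cm' (q ▸ a), q ▸ p.fsL (h.faE hn)⟩

theorem nsq (hu : u ∈ C[ρ.range]) : u * u ≠ ρ z := fun q => by
  have s := h.symm.h
  obtain ⟨b, hb, d, hd, a⟩ := s.std' (h.pr.KH (fc ρ _) hu) (by rw [ee_cr, h.g2]; exact mem_C1.1 (h.h.KH hu))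
  obtain ⟨c, hc, q'⟩ := h.fa'
  have s1 := s.sq' a hb hd (q.trans q')
  obtain ⟨y, hy⟩ := h.cls _ (ee_mem ρ 32) (h.oE (by decide))
  obtain ⟨m, hm, -, m2, -, m3⟩ := h.yE (by decide) (by omega) (by omega) hy
  obtain ⟨m', hm', m4⟩ := s.code' m3 (by rw [ee_cr, h.g2]; exact mem_C1.1 (h.h.LH (ee_mem ρ m)))
  have m5 := s.fix a hb hd hm' (m4 ▸ (mem_C.1 hu _ (ee_mem ρ m)).symm)
  have m6 : ee (cr g ρ) m' * ee (cr g ρ) m' = ee ρ 32 := by rw [← m4, ← h.h.mul, m2]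
  have := s.lq (c5 d hd b hb (by omega) (m' % 64) (Nat.mod_lt _ (by omega)) (by rw [← al_mod, m5]))
    (by rw [m6]; exact h.oE (by decide))
  rw [m6, ee_cr, h.g2] at this
  exact h.h.nW (this.symm (mem_C1'.1 h.pr.c))

theorem K2 {i : ℕ} (hu : u ∈ C[ρ.range]) (q : u ^ 2 ^ i = 1) : ∃ j : ℕ, u = ρ z ^ j := by
  induction i generalizing u with
  | zero => exact ⟨0, by simpa using q⟩
  | succ i ih =>
    obtain ⟨j, c⟩ := ih (mul_mem hu hu) (by rw [← pow_two, ← pow_mul, ← pow_succ', q])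
    have one := fun {u} => h.pr.one' (u := u) (fc ρ _)
    rw [(pow_eq4 h.h.oz).2 (Nat.mod_mod j 4).symm] at c
    have : j % 4 < 4 := Nat.mod_lt _ (by omega)
    generalize j % 4 = j at c this
    interval_cases j
    · rcases one hu (by simpa using c) with i | i
      exacts [⟨0, by simpa using i⟩, ⟨2, by rw [i, h.h.ht]⟩]
    · exact absurd (by simpa using c) (h.nsq hu)
    · have c' : ρ z * u = u * ρ z := mem_C.1 hu _ ⟨z, rfl⟩
      rcases one (mul_mem hu (fK ρ)) (by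
        rw [mul_assoc, ← mul_assoc (ρ z), c', mul_assoc, ← mul_assoc, c, h.h.ff, h.h.ht, h.h.tt]) with i | i
      · exact ⟨3, by rw [eq_inv_of_mul_eq_one_left i, h.h.finv, ← h.h.ht, ← pow_succ']⟩
      · exact ⟨1, by rw [← h.h.ff] at i; simpa using i⟩
    · refine absurd ?_ (h.nsq (inv_mem hu))
      rw [← mul_inv_rev, c, inv_eq_iff_mul_eq_one, ← pow_succ, h.h.f4]

theorem inL {i : ℕ} (q : Ac ρ u x 0) (h2 : u ^ 2 ^ i = 1) : u ∈ ρ.range := by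
  have c : Commute (ρ x) ((ρ x)⁻¹ * u) := mem_C.1 q.K _ ⟨x, rfl⟩
  have a : ((ρ x)⁻¹ * u) ^ 2 ^ i = (ρ x ^ 2 ^ i)⁻¹ :=
    eq_inv_of_mul_eq_one_right (by rw [← c.mul_pow, mul_inv_cancel_left, h2])
  obtain ⟨j, a'⟩ := h.h.LK (a ▸ inv_mem (pow_mem (show ρ x ∈ ρ.range from ⟨x, rfl⟩) _)) (pow_mem q.K (2 ^ i))
  obtain ⟨j, a'⟩ := h.K2 (i := i + 2) q.K (by
    rw [pow_add, pow_mul, a', ← pow_mul, mul_comm, pow_mul, show 2 ^ 2 = 4 from rfl, h.h.f4, one_pow])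
  rw [← mul_inv_cancel_left (ρ x) u, a']
  exact mul_mem ⟨x, rfl⟩ (pow_mem (show ρ z ∈ ρ.range from ⟨z, rfl⟩) j)

theorem pT : PiG {2} (ρ.range ⊓ h.h.Ha) := pig_of_elts fun a ⟨i, _, j, q⟩ => by
  obtain ⟨n, -, rfl⟩ := h.h.code i q
  exact pie2 (h.e8 n)

theorem syl : ∃ P, Syl 2 P ⊤ ∧ P ≤ h.h.Ha := by
  obtain ⟨P, hP, i⟩ := syl_superset Nat.prime_two inf_le_right h.pT
  have hS := h.h.syl hP
  have eP : ∀ n, ee ρ n ∈ P := fun n => i (mem_inf.2 ⟨ee_mem ρ n, h.h.ee_Ha n⟩)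
  refine ⟨P, Syl.of_norm (hS.sub (le_inf le_top (normG P)) fun y ⟨_, j⟩ => by_contra fun n => ?_) Nat.prime_two, hP.1⟩
  have tz := hS.1 (conj_mem j (h.h.ee128 ▸ eP 128))
  have p := h.h.pr rfl (fun e => n (mem_C1.2 (mul_inv_eq_iff_eq_mul.1 e))) tz
  have c : ∀ n, y * t * y⁻¹ * ee ρ n = ee ρ n * (y * t * y⁻¹) := fun n => mem_C1'.1 (by
    rw [← cj_C1, mem_cj]; exact hS.1 (conj_mem' j (eP n)))
  have sL := p.sL (ee_64 ρ ▸ c 64)
  obtain ⟨m, hm, q⟩ := h.h.code' sL (c 16)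
  rw [q] at c
  have := c10 0 (by omega) (by omega) m hm (h.h.cm' (c 1)) (h.h.cm' (c 2)) (h.h.cm' (c 4)) (h.h.cm' (c 8))
  refine p.ne (h.h.LK2 sL ?_ p.r.ot)
  rw [q, ee_def, this, τ_zero, map_one, one_mul]
  exact pow_mem (fK ρ) _

theorem out : ¬ ∀ u ∈ C1[t], ∃ x, Ac ρ u x 0 := fun q => by
  have s := h.symm
  have c : ∀ n, n = 1 ∨ n = 10 → ∃ m < 256, ee (cr g ρ) n = ee ρ m := fun n i => by
    obtain ⟨x, a⟩ := q (ee (cr g ρ) n) (mem_C1.2 (h.g2 ▸ s.h.pa (by omega)))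
    exact h.h.code' (h.inL a (s.e8 n)) (mem_C1.1 (s.h.LH (ee_mem _ n)))
  obtain ⟨x, hx, qx⟩ := c 1 (by omega)
  obtain ⟨y, hy, qy⟩ := c 10 (by omega)
  have a := s.h.mul (μ 0 (μ 0 10 10) 1) 128
  rw [← (by decide +kernel : μ 0 1 (μ 0 10 10) = μ 0 (μ 0 (μ 0 10 10) 1) 128), s.h.mul, s.h.mul, s.h.mul, s.h.mul, s.h.ee128,
    qx, qy, ← h.h.mul y y, ← h.h.mul x, ← h.h.mul _ x] at a
  obtain ⟨j, a'⟩ := h.h.of_mod (n := μ 0 x (μ 0 y y)) (m := μ 0 (μ 0 y y) x) (by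
    simpa only [μ_mod, Nat.mod_mod] using c6 (x % 64) (Nat.mod_lt _ (by omega)) (y % 64) (Nat.mod_lt _ (by omega)))
  have := h.h.eeK (n := 16) (mul_left_cancel (a'.symm.trans a) ▸ pow_mem (fK ρ) j)
  omega

end Sw
end Cfsg.Agent.SO
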