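import Cfsg.Agent.SO.D
import Cfsg.Agent.SO.TT
import Cfsg.Agent.H8.SE2

/-! # Standard subgroups `4.L3(4)`: transfer -/

set_option autoImplicit false
set_option linter.unusedVariables false
set_option linter.unusedSectionVars false
set_option maxRecDepth 100000
set_option synthInstance.maxSize 100000
set_option synthInstance.maxHeartbeats 400000

namespace Cfsg.Agent.SO
open Subgroup Cfsg.Agent.Spor Cfsg.Agent.Spor.OnD Cfsg.Agent.H8On Cfsg.Agent.BG Cfsg.Agent.Inv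

variable {G : Type*} [Group G] [Finite G]
variable {t s g g' l u c y : G} {ρ σ : U →* G} {e b d d' n m : ℕ} {x x' : U}

theorem Sd.acH (h : Sd t ρ e) (q : Ac ρ g x d) (hd : d < 4) : g ∈ C1[t] := mem_C1.2 (by
  rw [← mul_inv_eq_iff_eq_mul, ← h.ht, ← conj_pow, h.acf q hd, ← pow_mul, pow_eq4 h.oz]
  have := c_sz e h.e3 h.e1 d hd
  omega)
theorem Sd.dl (h : Sd t ρ e) (q : Ac ρ g x d) (hd : d < 4) (hd' : d' < 4) : (∃ x, Ac ρ g x d') ↔ d = d' :=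
  ⟨fun ⟨_, i⟩ => (h.uniq q i hd hd').1, fun i => ⟨x, i ▸ q⟩⟩
theorem exc (q : Ac ρ u x 1) : ∃ c, ∃ i : ℕ, Ac ρ c 1 1 ∧ c ^ 2 ^ i = 1 := by
  have a : Ac ρ (ρ x⁻¹ * u) 1 1 := by simpa [β_zero] using (ac_inn ρ x⁻¹).mul q (by omega) (by omega)
  generalize ρ x⁻¹ * u = c at a
  have k : c * c ∈ C[ρ.range] := by simpa using (a.mul a (by omega) (by omega)).K
  obtain ⟨i, m, ⟨j, rfl⟩, o⟩ := Nat.exists_eq_two_pow_mul_odd (orderOf_pos c).ne'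
  refine ⟨c ^ (2 * j + 1), i, ?_, by rw [← pow_mul, mul_comm, ← o, pow_orderOf_eq_one]⟩
  rw [pow_succ, pow_mul, pow_two]
  simpa using (ac_K (pow_mem k j)).mul a (by omega) (by omega)

namespace Sw
variable (h : Sw t ρ g)
include h

theorem allE (hn : E7 n) (hm : E7 m) (hy : y * t * y⁻¹ = ee ρ n) : ee ρ m * cr y ρ z = cr y ρ z * ee ρ m := by
  have key := (by decide +kernel : ∀ r < 256, μ 0 r 16 = μ 0 16 r → μ 0 r 32 = μ 0 32 r → ∀ m < 256, E7 m →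
    μ 0 m r = μ 0 r m)
  have k1 : ∀ {n m y}, E7 n → n % 64 ≠ 0 → n % 64 ≠ 16 → E7 m → y * t * y⁻¹ = ee ρ n →
      ee ρ m * cr y ρ z = cr y ρ z * ee ρ m := fun {n m y} hn i j hm hy => by
    obtain ⟨r, hr, r1, r2, r3, -⟩ := h.yE hn (by omega) (by omega) hy
    rw [r1]
    exact h.h.cm (key r hr r3 (c9 r hr r3 (r2 ▸ i) (r2 ▸ j)).1 m (by unfold E7 at hm; omega) hm)
  by_cases h1 : n = 128
  · rw [h1, h.h.ee128] at hy
    exact mem_C.1 (conj_mem (N_le_NC' (h.h.HN (mem_C1.2 (mul_inv_eq_iff_eq_mul.1 hy)))) (fK ρ)) _ (ee_mem ρ m)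
  by_cases h2 : n = 16
  · subst h2
    obtain ⟨-, r, hr, q⟩ := (h.h.pr hy h.h.at' (h.h.LH (ee_mem ρ 16))).fs0 (fc ρ _) rfl
    rw [q]
    exact h.h.cm ((by decide +kernel : ∀ n < 256, E7 n → ∀ c < 256, (c = 37 ∨ c = 53 ∨ c = 165 ∨ c = 181) →
      μ 0 n c = μ 0 c n) m (by unfold E7 at hm; omega) hm r (by omega) hr)
  by_cases h3 : n = 144
  · subst h3
    obtain ⟨r, hr, r1, -, r3, -⟩ := h.yE hn (by omega) (by omega) hy
    obtain ⟨v, hv⟩ := h.cls _ (ee_mem ρ 32) (h.oE (by decide))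
    have := (h.prE (by decide) hn (by omega) hv hy).sym (k1 (by decide) (by omega) (by omega) hn hv)
    rw [r1] at this ⊢
    exact h.h.cm (key r hr r3 (h.h.cm' this.symm) m (by unfold E7 at hm; omega) hm)
  exact k1 hn (by unfold E7 at hn; omega) (by unfold E7 at hn; omega) hm hy

section
variable (q : Ac ρ c 1 1)
include q
theorem cb (n : ℕ) : c * ee ρ n * c⁻¹ = ee ρ (bt 0 1 n) := by rw [ee, q, ← h.h.bt (by omega)]; simp
theorem cE' (hn : E7 n) : c * ee ρ n = ee ρ n * c := by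
  rw [← mul_inv_eq_iff_eq_mul, h.cb q, (by decide +kernel : ∀ n < 256, E7 n → bt 0 1 n = n) n
    (by unfold E7 at hn; omega) hn]
theorem cf : c * ρ z * c⁻¹ = (ρ z)⁻¹ := h.h.acf3 q (by omega) (by decide +kernel)
theorem cnL : c ∉ ρ.range := fun ⟨y, i⟩ => by
  have := (h.h.uniq q (i ▸ ac_inn ρ y) (by omega) (by omega)).1
  omega
theorem ci (hm : m < 256) (h1 : μ 0 m 16 = μ 0 16 m) (h2 : μ 0 m m % 64 = 32) :
    c * ee ρ m * c⁻¹ = (ee ρ m)⁻¹ := by rw [h.cb q, (c9 m hm h1 (by omega) (by omega)).2, h.h.iv hm]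

theorem cA : c * c ≠ t := fun i => by
  obtain ⟨b, hb, d, hd, a⟩ := h.h.std' (g := g * c * g⁻¹) (mem_C1.2 (by
    rw [← h.g2, conj_mul, conj_mul, h.cE' q (by decide)])) (by
    rw [← h.g1, conj_mul, conj_mul, mem_C1.1 (h.h.acH q (by omega))])
  have k : ∀ n < 256, g * c * g⁻¹ * ee ρ n * (g * c * g⁻¹)⁻¹ = (ee ρ n)⁻¹ →
      al 0 b d (n % 64) % 64 = iv 0 (n % 64) % 64 := fun n hn j => by
    rw [← al_mod, ← iv_mod]; exact h.h.mod (by rw [← h.h.al a hb hd, j, h.h.iv hn])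
  have k' : ∀ v, c * v * c⁻¹ = v⁻¹ → g * c * g⁻¹ * (g * v * g⁻¹) * (g * c * g⁻¹)⁻¹ = (g * v * g⁻¹)⁻¹ :=
    fun v j => by rw [conj_inv, conj_inv, conj_mul, conj_mul, j]
  obtain ⟨r, hr, r1⟩ := h.fa
  obtain ⟨y, hy⟩ := h.cls _ (ee_mem ρ 32) (h.oE (by decide))
  obtain ⟨m, hm, -, m2, m3, ⟨v, m4⟩⟩ := h.yE (by decide) (by omega) (by omega) hy
  have gg : g * g ∈ C1[t] := mem_C1.2 (by
    rw [← mul_inv_eq_iff_eq_mul, show g * g * t * (g * g)⁻¹ = g * (g * t * g⁻¹) * g⁻¹ by group, h.g1, h.g2])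
  obtain ⟨m', hm', m5⟩ := h.h.code' (g := g * ee ρ m * g⁻¹) (by
    have := h.h.nL gg (l := ρ v) ⟨v, rfl⟩
    rw [← m4, cr_apply]; convert this using 1; group) (by
    rw [← h.g1, conj_mul, conj_mul, mem_C1.1 (h.h.LH (ee_mem ρ m))])
  have m6 : ee ρ m' * ee ρ m' = g * ee ρ 32 * g⁻¹ := by rw [← m5, conj_mul, ← h.h.mul, m2]
  have := h.h.lq (c7 d hd b hb (h.h.sq' a hb hd (by rw [conj_mul, i, h.g1])) (r % 64) (Nat.mod_lt _ (by omega))
    (by rcases hr with rfl | rfl | rfl | rfl <;> decide +kernel) (k r (by omega) (r1 ▸ k' _ (h.cf q)))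
    (m' % 64) (Nat.mod_lt _ (by omega)) (k m' hm' (m5 ▸ k' _ (h.ci q hm m3 (by rw [m2])))))
    (by rw [m6, orderOf_conj']; exact h.oE (by decide))
  rw [m6] at this
  refine h.h.nW (W.symm (W.cj (g := g) ?_) (mem_C1'.1 h.pr.c))
  rwa [h.g1, h.g2]

theorem cB : y * t * y⁻¹ ≠ c := fun hy => by
  have k : ∀ n, E7 n → n % 64 = 32 → ee ρ n * cr y ρ z * (ee ρ n)⁻¹ = (cr y ρ z)⁻¹ := fun n hn i => by
    obtain ⟨v, hv⟩ := h.cls _ (ee_mem ρ n) (h.oE hn)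
    obtain ⟨m, hm, m1, m2, m3, -⟩ := h.yE hn (by omega) (by omega) hv
    exact (h.h.pr2 hv hy (fun j => h.cnL q (j ▸ ee_mem ρ n)) (mem_C1.2 (h.cE' q hn))).inv
      (m1 ▸ h.ci q hm m3 (by rw [m2, i]))
  have p := h.h.pr hy (fun j => h.cnL q (j ▸ h.h.tL)) (h.h.acH q (by omega))
  have a := k 160 (by decide) rfl
  rw [h.h.ee_add (b := 32) (by omega), show ee ρ 32 * t * cr y ρ z * (ee ρ 32 * t)⁻¹ =
    ee ρ 32 * (t * cr y ρ z * t⁻¹) * (ee ρ 32)⁻¹ by group, p.inv (h.cf q), ← conj_inv, k 32 (by decide) rfl,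
    inv_inv] at a
  exact p.r.fne a.symm
end

variable [IsSimpleGroup G] (hG : ¬ IsMulCommutative G)
include hG

theorem no1 : ¬ Ac ρ u x 1 := fun q => by
  obtain ⟨c, i, q, hi⟩ := exc q
  have c2 : c * c = 1 := by
    obtain ⟨j, a⟩ := h.K2 (u := c * c) (i := i) (by simpa using (q.mul q (by omega) (by omega)).K)
      (by rw [← pow_two, ← pow_mul, mul_comm, pow_mul, hi, one_pow])
    have : c * (c * c) * c⁻¹ = c * c := by group
    rw [a, ← conj_pow, h.cf q, inv_pow, inv_eq_iff_mul_eq_one] at this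
    exact ((h.h.zinv this).resolve_right (a ▸ h.cA q)) ▸ a
  have oc : orderOf c = 2 := ord2_iff.2 ⟨c2, fun j => h.cnL q (j ▸ one_mem _)⟩
  obtain ⟨P, hP, PH⟩ := h.syl
  obtain ⟨y, uP, uq, FP⟩ := tt hG hP (fun u => (∃ x, Ac ρ u x 0) ∨ ∃ x, Ac ρ u x 3) (fun a i b j => by
    obtain ⟨x, d, hd, a1⟩ := h.h.act a (PH i).1
    obtain ⟨x', d', hd', a2⟩ := h.h.act b (PH j).1
    have hx : d ^^^ d' < 4 := Nat.xor_lt_two_pow (n := 2) hd hd'
    have a3 := a1.mul a2 hd hd'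
    rw [h.h.dl a1 hd (by omega), h.h.dl a1 hd (by omega), h.h.dl a2 hd' (by omega), h.h.dl a2 hd' (by omega),
      h.h.dl a3 hx (by omega), h.h.dl a3 hx (by omega)]
    interval_cases d <;> interval_cases d' <;> decide) c2 (D := ρ.range ⊓ h.h.Ha ⊓ C1[c]) (h.pT.of_le inf_le_left)
    fun d i => mem_C1.1 i.2
  have u2 : y * c * y⁻¹ * (y * c * y⁻¹) = 1 := by rw [conj_mul, c2]; simp
  rcases uq with ⟨x, uq⟩ | uq
  · obtain ⟨v, hv⟩ := h.cls _ (h.inL (i := 1) uq (by simpa [pow_two] using u2)) (by rwa [orderOf_conj'])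
    exact h.cB q (y := y⁻¹ * v) (by rw [mul_assoc _ v, mul_inv_rev, ← mul_assoc, mul_assoc _ _ v⁻¹, hv]; group)
  obtain ⟨b, hb, d, hd, a⟩ := h.h.Ha_ac (PH uP)
  obtain rfl : d = 3 := (h.h.dl a hd (by omega)).1 uq
  have sq := h.h.sq1 a hb hd (u2 ▸ one_mem _)
  have FH : ∀ n, E7 n → y * ee ρ n * y⁻¹ ∈ h.h.Ha := fun n hn =>
    PH (FP _ (mem_inf.2 ⟨mem_inf.2 ⟨ee_mem ρ n, h.h.ee_Ha n⟩, mem_C1'.2 (h.cE' q hn)⟩))
  have oF : ∀ n, E7 n → orderOf (y * ee ρ n * y⁻¹) = 2 := fun n hn => by rw [orderOf_conj', h.oE hn]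
  have K1 : ∀ n, E7 n → y * ee ρ n * y⁻¹ * ρ z = ρ z * (y * ee ρ n * y⁻¹) → y * ee ρ n * y⁻¹ ≠ t →
      ∃ m, y * ee ρ n * y⁻¹ = ee ρ m ∧ al 0 b 3 (m % 64) % 64 = m % 64 ∧ μ 0 (m % 64) (m % 64) % 64 = 0 ∧
        m % 64 ≠ 0 := fun n hn i j => by
    obtain ⟨v, hv⟩ := h.cls _ (ee_mem ρ n) (h.oE hn)
    have sL := (h.h.pr (g := y * v) (by rw [← hv]; group) j (FH n hn).1).sL i
    obtain ⟨m, hm, m1⟩ := h.h.code sL (FH n hn).2.choose_spec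
    refine ⟨m, m1, ?_, ?_, fun k => j (h.h.LK2 sL ?_ (oF n hn))⟩
    · rw [← al_mod, h.h.fix a hb hd hm (by rw [← m1, conj_mul, conj_mul, h.cE' q hn])]
    · rw [← μ_mod']; exact h.h.mod (m := 0) (by rw [h.h.mul, ← m1, sq_of_ord2 (oF n hn), ee_zero])
    · rw [m1, ee_def, k, τ_zero, map_one, one_mul]; exact pow_mem (fK ρ) _
  have K2 : ∀ n m r, E7 n → E7 m → E7 r → μ 0 n m = r →
      y * ee ρ n * y⁻¹ * ρ z = ρ z * (y * ee ρ n * y⁻¹) → y * ee ρ m * y⁻¹ * ρ z = ρ z * (y * ee ρ m * y⁻¹) →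
      y * ee ρ n * y⁻¹ = t ∨ y * ee ρ m * y⁻¹ = t ∨ y * ee ρ r * y⁻¹ = t := fun n m r hn hm hr e i j => by
    by_contra! k
    obtain ⟨n', n1, n2, n3, n4⟩ := K1 n hn i k.1
    obtain ⟨m', m1, m2, m3, m4⟩ := K1 m hm j k.2.1
    obtain ⟨j, e'⟩ := h.h.of_mod (c8 b hb sq _ (Nat.mod_lt _ (by omega)) n2 n3 n4 _ (Nat.mod_lt _ (by omega)) m2 m3 m4)
    have : y * ee ρ r * y⁻¹ = ρ z ^ j := by
      rw [← e, h.h.mul, ← conj_mul, n1, e', mem_C.1 (pow_mem (fK ρ) j) _ (ee_mem ρ m'), mul_assoc, ← m1,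
        sq_of_ord2 (oF m hm), mul_one]
    exact k.2.2 (h.h.LK2 (this ▸ pow_mem (show ρ z ∈ ρ.range from ⟨z, rfl⟩) j) (this ▸ pow_mem (fK ρ) j) (oF r hr))
  have K3 : ∀ n, E7 n → y * ee ρ n * y⁻¹ = t → False := fun n hn i => by
    have a : ∀ m, E7 m → y * ee ρ m * y⁻¹ * ρ z = ρ z * (y * ee ρ m * y⁻¹) := fun m hm => by
      have := h.allE (y := y⁻¹) hn hm (by rw [← i]; group)
      rw [cr_apply] at this
      calc _ = y * (ee ρ m * (y⁻¹ * ρ z * y⁻¹⁻¹)) * y⁻¹ := by group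
        _ = _ := by rw [this]; group
    have a' : ∀ m, E7 m → y * ee ρ m * y⁻¹ = t → m = n := fun m hm j =>
      h.h.inj (by unfold E7 at hm; omega) (by unfold E7 at hn; omega) (by simpa using j.trans i.symm)
    have a'' : ∀ p q r, E7 p → E7 q → E7 r → μ 0 p q = r → p = n ∨ q = n ∨ r = n := fun p q r i j k l =>
      (K2 p q r i j k l (a p i) (a q j)).imp (a' p i) (Or.imp (a' q j) (a' r k))
    have := a'' 16 32 48 (by decide) (by decide) (by decide) (by decide +kernel)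
    have := a'' 16 128 144 (by decide) (by decide) (by decide) (by decide +kernel)
    have := a'' 32 128 160 (by decide) (by decide) (by decide) (by decide +kernel)
    omega
  have K4 : ∀ n m r, E7 n → E7 m → E7 r → μ 0 n m = r →
      y * ee ρ n * y⁻¹ * ρ z = ρ z * (y * ee ρ n * y⁻¹) → y * ee ρ m * y⁻¹ * ρ z ≠ ρ z * (y * ee ρ m * y⁻¹) :=
    fun n m r hn hm hr e i j => (K2 n m r hn hm hr e i j).elim (K3 n hn) fun k => k.elim (K3 m hm) (K3 r hr)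
  have K5 : ∀ n m r, E7 n → E7 m → μ 0 n m = r → y * ee ρ n * y⁻¹ * ρ z ≠ ρ z * (y * ee ρ n * y⁻¹) →
      y * ee ρ m * y⁻¹ * ρ z ≠ ρ z * (y * ee ρ m * y⁻¹) → y * ee ρ r * y⁻¹ * ρ z = ρ z * (y * ee ρ r * y⁻¹) :=
    fun n m r hn hm e i j => by
      have i' := (h.h.cf (FH n hn).1).resolve_left i
      have j' := (h.h.cf (FH m hm).1).resolve_left j
      rw [← e, h.h.mul, ← conj_mul, ← mul_inv_eq_iff_eq_mul, mul_inv_rev, mul_assoc _ _ (ρ z), mul_assoc,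
        ← mul_assoc _ _ _⁻¹, j', ← mul_assoc, ← conj_inv, i', inv_inv]
  have E : E7 16 ∧ E7 32 ∧ E7 48 ∧ E7 128 ∧ E7 144 ∧ E7 160 ∧ E7 176 := by decide
  obtain ⟨e1, e2, e3, e4, e5, e6, e7⟩ := E
  have a1 := K4 16 32 48 e1 e2 e3 (by decide +kernel)
  have a2 := K4 16 128 144 e1 e4 e5 (by decide +kernel)
  have a3 := K4 16 160 176 e1 e6 e7 (by decide +kernel)
  have a4 := K4 32 128 160 e2 e4 e6 (by decide +kernel)
  have a5 := K4 32 144 176 e2 e5 e7 (by decide +kernel)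
  have a6 := K4 48 128 176 e3 e4 e7 (by decide +kernel)
  have a7 := K4 48 144 160 e3 e5 e6 (by decide +kernel)
  have b1 := K5 16 32 48 e1 e2 (by decide +kernel)
  have b2 := K5 16 128 144 e1 e4 (by decide +kernel)
  have b3 := K5 32 128 160 e2 e4 (by decide +kernel)
  by_cases i : y * ee ρ 16 * y⁻¹ * ρ z = ρ z * (y * ee ρ 16 * y⁻¹)
  · exact a3 i (b3 (a1 i) (a2 i))
  by_cases j : y * ee ρ 32 * y⁻¹ * ρ z = ρ z * (y * ee ρ 32 * y⁻¹)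
  · exact a5 j (b2 i (a4 j))
  · exact a7 (b1 i j) (b2 i (a6 (b1 i j)))

theorem dm (i : u ∈ C1[t]) (j : y ∈ C1[t]) :
    (∃ x, Ac ρ (u * y) x 0) ↔ ((∃ x, Ac ρ u x 0) ↔ ∃ x, Ac ρ y x 0) := by
  obtain ⟨x, d, hd, a1⟩ := h.h.act u i
  obtain ⟨x', d', hd', a2⟩ := h.h.act y j
  have hx : d ^^^ d' < 4 := Nat.xor_lt_two_pow (n := 2) hd hd'
  have a3 := a1.mul a2 hd hd'
  rw [h.h.dl a1 hd (by omega), h.h.dl a2 hd' (by omega), h.h.dl a3 hx (by omega)]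
  have n1 : d ≠ 1 := fun k => h.no1 hG (k ▸ a1)
  have n2 : d' ≠ 1 := fun k => h.no1 hG (k ▸ a2)
  have n3 : d ^^^ d' ≠ 1 := fun k => h.no1 hG (k ▸ a3)
  revert n1 n2 n3
  clear a1 a2 a3 hx
  interval_cases d <;> interval_cases d' <;> decide

theorem allc (o : orderOf u = 2) : ∃ y, y * t * y⁻¹ = u := by
  obtain ⟨P, hP, PH⟩ := h.syl
  obtain ⟨y, -, ⟨x, uq⟩, -⟩ := tt hG hP (fun u => ∃ x, Ac ρ u x 0) (fun a i b j => h.dm hG (PH i).1 (PH j).1)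
    (sq_of_ord2 o) (pig_bot _) fun d i => by simp [mem_bot.1 i]
  obtain ⟨v, hv⟩ := h.cls _ (h.inL (i := 1) uq (by rw [conj_pow, pow_one, pow_two, sq_of_ord2 o]; simp))
    (by rwa [orderOf_conj'])
  exact ⟨y⁻¹ * v, by rw [mul_assoc _ v, mul_inv_rev, ← mul_assoc, mul_assoc _ _ v⁻¹, hv]; group⟩

theorem oddK (hx : u ∈ C[ρ.range]) (hn : Odd (orderOf u)) : u = 1 := by
  have key : ∀ y, y * t * y⁻¹ ∈ C1[t] → ∀ u, Odd (orderOf u) →
      (u ∈ C[ρ.range] ↔ y⁻¹ * u * y ∈ C[ρ.range]) := fun y i u o => by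
    rw [← mem_cj, cj_C]
    by_cases j : y * t * y⁻¹ = t
    · rw [cj_of_mem_N (h.h.HN (mem_C1.2 (mul_inv_eq_iff_eq_mul.1 j)))]
    have p := h.h.pr rfl j i
    rw [← cr_range]
    rcases h.h.cf i with q | q
    · exact p.odd' q o
    · obtain ⟨a, aL, oa, a1, a2, a3, -⟩ := p.two q
      obtain ⟨v, hv⟩ := h.cls a aL oa
      have af := (mem_C.1 (fK ρ) a aL)
      rw [(h.h.pr hv a1 (h.h.LH aL)).odd' af o, (h.h.pr2 rfl hv (fun k => h.h.fne (by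
        rw [← q, ← k, af, mul_inv_cancel_right])) a2).odd' a3 o]
  let H : Subgroup G :=
    { carrier := {g | ∀ x, Odd (orderOf x) → (x ∈ C[ρ.range] ↔ g⁻¹ * x * g ∈ C[ρ.range])}
      one_mem' := fun x _ => by simp
      mul_mem' := fun {a b} i j x o => by
        rw [i x o, j _ (by rwa [orderOf_conj'']), mul_inv_rev]; simp only [mul_assoc]
      inv_mem' := fun {a} i x o => by rw [i (a⁻¹⁻¹ * x * a⁻¹) (by rwa [orderOf_conj''])]; simp [mul_assoc] }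
  have CH : C1[t] ≤ H := fun g i => key g (mul_mem (mul_mem i (mem_C1_self t)) (inv_mem i))
  have e : H = ⊤ := H8SE.se_top h.h.ot (CH (mem_C1_self t)) (fun g i => CH (mem_C1.2 i)) (fun w l m => by
    obtain ⟨y, e⟩ := h.allc hG l
    exact ⟨y, key y (e ▸ mem_C1.2 m), e⟩) (a := ee ρ 1) (ord2_iff.2 ⟨by
      rw [← h.h.mul, (by decide +kernel : μ 0 1 1 = 0), ee_zero], fun i => by
        have := h.h.mod (i.trans (ee_zero ρ).symm); omega⟩) (h.oE (n := 32) (by decide))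
    (CH (h.h.LH (ee_mem ρ _))) (CH (h.h.LH (ee_mem ρ _))) (by
      rw [← h.h.mul, ← h.h.mul, (by decide +kernel : μ 0 (μ 0 1 32) (μ 0 1 32) = 128), h.h.ee128])
  rcases (C1[t]).normalCore_normal.eq_bot_or_eq_top with q | q
  · exact mem_bot.1 (q ▸ fun y => h.h.KH (by simpa using ((e ▸ mem_top y⁻¹ : y⁻¹ ∈ H) u hn).1 hx))
  · exact absurd (mem_center_iff.2 fun y => mem_C1.1 (normalCore_le _ (q ▸ mem_top y))) (h.h.ncen hG)

theorem KL : C[ρ.range] ≤ ρ.range := fun u l => by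
  obtain ⟨m, r, o, e⟩ := Nat.exists_eq_two_pow_mul_odd (orderOf_pos u).ne'
  exact h.inL (ac_K l) (h.oddK hG (pow_mem l (2 ^ m)) (by
    rwa [orderOf_pow_of_dvd (by positivity) ⟨r, e⟩, e, Nat.mul_div_cancel_left _ (by positivity)]))

theorem idx : ρ.range.relIndex C1[t] = 2 := by
  have k : ∀ u, u ∈ ρ.range ↔ ∃ x, Ac ρ u x 0 := fun u => ⟨fun ⟨y, i⟩ => ⟨y, i ▸ ac_inn ρ y⟩, fun ⟨y, i⟩ => by
    simpa using mul_mem (show ρ y ∈ ρ.range from ⟨y, rfl⟩) (h.KL hG i.K)⟩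
  obtain ⟨u, i, j⟩ : ∃ u ∈ C1[t], ¬ ∃ x, Ac ρ u x 0 := by simpa only [not_forall, exists_prop] using h.out
  refine relIndex_eq_two_iff.2 ⟨u, i, fun b l => ?_⟩
  rw [k, k, h.dm hG l i]
  tauto

end Sw
end Cfsg.Agent.SO
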